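import Groth.Agent.S13987
import Groth.Agent.K0Fam.ThickEquiv
import Groth.Agent.KZeroLib.DevissageNil
import Groth.Agent.KRRAmple.PushCl

/-!
# The localisation sequence for `K₀` of coherent modules
-/

set_option autoImplicit false
set_option backward.isDefEq.respectTransparency false
set_option linter.style.haveILetI false
set_option linter.unusedSectionVars false

universe u

open CategoryTheory CategoryTheory.Limits AlgebraicGeometry TopologicalSpace
open Groth.Agent.PullbackMod Groth.Agent.KZeroLib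

noncomputable section

namespace Groth.Agent.K0LocLib

/-- `K₀` of coherent modules. -/
abbrev K (X : Scheme.{u}) := KZero.K0sub (fun M : X.Modules => Coh.IsCoh M)

/-- The class of a module in `K₀` of coherent modules. -/
abbrev cl {X : Scheme.{u}} (M : X.Modules) : K X := KZero.clSub (fun M : X.Modules => Coh.IsCoh M) M

theorem isZero_of_stalks {X : Scheme.{u}} {M : X.Modules} (h : ∀ x : X, Subsingleton (M.presheaf.stalk x)) :
    IsZero M :=
  (IsZero.iff_id_eq_zero M).2 ((eq_zero_iff_stalk _).2 fun x => by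
    haveI := h x
    exact Subsingleton.elim _ _)

theorem cl_iso {X : Scheme.{u}} [IsLocallyNoetherian X] {M N : X.Modules} (e : M ≅ N) (hM : Coh.IsCoh M) :
    cl N = cl M :=
  Devissage.cl_iso (Devissage.hyp' (X := X)) e hM

theorem cl_isZero {X : Scheme.{u}} [IsLocallyNoetherian X] {M : X.Modules} (h : IsZero M) : cl M = 0 :=
  Devissage.cl_isZero (Devissage.hyp' (X := X)) h

theorem cl_add {X : Scheme.{u}} {S : ShortComplex X.Modules} (hS : S.ShortExact) (h₁ : Coh.IsCoh S.X₁)
    (h₂ : Coh.IsCoh S.X₂) (h₃ : Coh.IsCoh S.X₃) : cl S.X₂ = cl S.X₁ + cl S.X₃ :=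
  K0ResLib.clSub_add (P := fun M : X.Modules => Coh.IsCoh M) hS h₁ h₂ h₃

/-- Difference of source and target in terms of kernel and cokernel. -/
theorem cl_sub {X : Scheme.{u}} [IsLocallyNoetherian X] {A B : X.Modules} (f : A ⟶ B) (hA : Coh.IsCoh A)
    (hB : Coh.IsCoh B) : cl A - cl B = cl (kernel f) - cl (cokernel f) := by
  obtain ⟨hk, hc⟩ := QCohLib.isCoh_kernel_cokernel f hA hB
  have hI : Coh.IsCoh (Abelian.image f) :=
    (QCohLib.isCoh_kernel_cokernel (cokernel.π f) hB hc).1
  have h1 : cl A = cl (kernel f) + cl (Abelian.image f) :=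
    cl_add (S := ShortComplex.mk (kernel.ι f) (Abelian.factorThruImage f)
        ((cancel_mono (Abelian.image.ι f)).1 (by simp)))
      { exact := ShortComplex.exact_of_f_is_kernel _ (KernelFork.IsLimit.ofι _ _
          (fun y hy => kernel.lift f y (by rw [← Abelian.image.fac f, reassoc_of% hy, zero_comp]))
          (fun y hy => kernel.lift_ι _ _ _)
          (fun y hy m hm => (cancel_mono (kernel.ι f)).1 (by simpa using hm)))
        mono_f := inferInstance
        epi_g := inferInstance } hk hA hI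
  have h2 : cl B = cl (Abelian.image f) + cl (cokernel f) :=
    cl_add (S := ShortComplex.mk (Abelian.image.ι f) (cokernel.π f) (kernel.condition _))
      { exact := ShortComplex.exact_of_f_is_kernel _ (kernelIsKernel _)
        mono_f := inferInstance
        epi_g := inferInstance } hI hB hc
  rw [h1, h2]
  abel

section Open

variable {X U : Scheme.{u}} (j : U ⟶ X) [IsOpenImmersion j]

/-- Restriction to the range, in terms of restriction along `j`. -/
def toRange : U ≅ (j.opensRange : Scheme.{u}) :=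
  IsOpenImmersion.isoOfRangeEq j j.opensRange.ι (by rw [Scheme.Opens.range_ι]; rfl)

/-- Comparison of the restrictions. -/
def rangeIso : Scheme.Modules.restrictFunctor j.opensRange.ι ≅
    Scheme.Modules.restrictFunctor j ⋙ Scheme.Modules.restrictFunctor (toRange j).inv :=
  Scheme.Modules.restrictFunctorCongr (IsOpenImmersion.isoOfRangeEq_inv_fac _ _ _).symm ≪≫
    Scheme.Modules.restrictFunctorComp _ _

/-- Restricting back. -/
def backIso : Scheme.Modules.restrictFunctor (toRange j).inv ⋙ Scheme.Modules.restrictFunctor (toRange j).hom ≅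
    𝟭 U.Modules :=
  (Scheme.Modules.restrictFunctorComp _ _).symm ≪≫ Scheme.Modules.restrictFunctorCongr (toRange j).hom_inv_id ≪≫
    Scheme.Modules.restrictFunctorId

theorem faithful_inv : (Scheme.Modules.restrictFunctor (toRange j).inv).Faithful :=
  Functor.Faithful.of_comp_iso (backIso j)

theorem stalk_bijective_iff {A B : X.Modules} (ψ : A ⟶ B) (y : U) :
    Function.Bijective (stalkLin ((Scheme.Modules.restrictFunctor j).map ψ) y) ↔
      Function.Bijective (stalkLin ψ (j y)) := by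
  let eA := ((Scheme.Modules.restrictStalkNatIso j y).app A).addCommGroupIsoToAddEquiv
  let eB := ((Scheme.Modules.restrictStalkNatIso j y).app B).addCommGroupIsoToAddEquiv
  have hn : eB ∘ stalkLin ((Scheme.Modules.restrictFunctor j).map ψ) y = stalkLin ψ (j y) ∘ eA :=
    funext fun w => congr($((Scheme.Modules.restrictStalkNatIso j y).hom.naturality ψ) w)
  exact (EquivLike.comp_bijective _ eB).symm.trans ((iff_of_eq (congrArg Function.Bijective hn)).trans
    (EquivLike.bijective_comp eA _))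

theorem subsingleton_kernel_cokernel {A B : X.Modules} (f : A ⟶ B)
    [IsIso ((Scheme.Modules.restrictFunctor j).map f)] (y : U) :
    Subsingleton ((kernel f).presheaf.stalk (j y)) ∧ Subsingleton ((cokernel f).presheaf.stalk (j y)) := by
  have h := (stalk_bijective_iff j f y).1 ((isIso_iff_stalk _).1 inferInstance y)
  exact ⟨(S13987.subsingleton_kernel_iff f _).2 h.1, (S13987.subsingleton_cokernel_iff f _).2 h.2⟩

variable [IsNoetherian X]

/-- Coherent modules extend. -/
theorem exists_ext {N : U.Modules} (hN : Coh.IsCoh N) :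
    ∃ M : X.Modules, Coh.IsCoh M ∧ Nonempty ((Scheme.Modules.restrictFunctor j).obj M ≅ N) := by
  haveI : IsLocallyNoetherian U := isLocallyNoetherian_of_isOpenImmersion j
  haveI : IsLocallyNoetherian (j.opensRange : Scheme.{u}) := isLocallyNoetherian_of_isOpenImmersion j.opensRange.ι
  have hN' : Coh.IsCoh ((Scheme.Modules.restrictFunctor (toRange j).inv).obj N) := DCohLib.isCoh_iso ((Scheme.Modules.restrictFunctorIsoPullback _).app N).symm (PullbackMod.isCoh_pullback _ N hN)
  haveI : Coh.IsQCoh ((Scheme.Modules.restrictFunctor (toRange j).inv).obj N) := hN'.1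
  obtain ⟨M, hM1, hM2, ⟨i⟩⟩ := S2252.result (fun x => ⟨⊤, trivial, inferInstance⟩) j.opensRange
    ((Scheme.Modules.restrictFunctor (toRange j).inv).obj N) hN'.2
  exact ⟨M, ⟨hM1, hM2⟩, ⟨((backIso j).app _).symm ≪≫
    (Scheme.Modules.restrictFunctor (toRange j).hom).mapIso (((rangeIso j).app M).symm ≪≫ i) ≪≫
      (backIso j).app N⟩⟩

/-- Morphisms extend after shrinking the source. -/
theorem exists_lift' {F G : X.Modules} (hF : Coh.IsCoh F) (hG : Coh.IsCoh G)
    (φ : (Scheme.Modules.restrictFunctor j).obj F ⟶ (Scheme.Modules.restrictFunctor j).obj G) :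
    ∃ (F' : X.Modules) (ι : F' ⟶ F) (φ' : F' ⟶ G), Mono ι ∧ Coh.IsCoh F' ∧
      IsIso ((Scheme.Modules.restrictFunctor j).map ι) ∧
      (Scheme.Modules.restrictFunctor j).map φ' = (Scheme.Modules.restrictFunctor j).map ι ≫ φ := by
  obtain ⟨F', ι, φ', hm, hF', hι, hφ'⟩ := S0816.result X F G hF hG j.opensRange
    ((rangeIso j).hom.app F ≫ (Scheme.Modules.restrictFunctor (toRange j).inv).map φ ≫ (rangeIso j).inv.app G)
  refine ⟨F', ι, φ', hm, hF', (isIso_iff_stalk _).2 fun y => ?_, ?_⟩
  · refine (stalk_bijective_iff j ι y).2 ?_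
    obtain ⟨h1, h2⟩ := subsingleton_kernel_cokernel j.opensRange.ι ι ⟨j y, y, rfl⟩
    exact ⟨(S13987.subsingleton_kernel_iff ι _).1 h1, (S13987.subsingleton_cokernel_iff ι _).1 h2⟩
  · haveI := faithful_inv j
    refine (Scheme.Modules.restrictFunctor (toRange j).inv).map_injective ?_
    have hn := fun {A B : X.Modules} (g : A ⟶ B) => (rangeIso j).hom.naturality g
    rw [← cancel_epi ((rangeIso j).hom.app F'), Functor.map_comp]
    refine (hn φ').symm.trans ?_
    rw [hφ', Category.assoc, Category.assoc, Category.assoc, Iso.inv_hom_id_app]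
    erw [Category.comp_id]
    rw [← Category.assoc, hn ι, Category.assoc]
    rfl

/-- Morphisms extend after shrinking the source. -/
theorem exists_lift {F G : X.Modules} (hF : Coh.IsCoh F) (hG : Coh.IsCoh G)
    (φ : (Scheme.Modules.restrictFunctor j).obj F ⟶ (Scheme.Modules.restrictFunctor j).obj G) :
    ∃ (F' : X.Modules) (ι : F' ⟶ F) (φ' : F' ⟶ G), Coh.IsCoh F' ∧
      IsIso ((Scheme.Modules.restrictFunctor j).map ι) ∧
      (Scheme.Modules.restrictFunctor j).map φ' = (Scheme.Modules.restrictFunctor j).map ι ≫ φ := by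
  obtain ⟨F', ι, φ', -, h⟩ := exists_lift' j hF hG φ
  exact ⟨F', ι, φ', h⟩

end Open

section Sequence

variable {X X' U : Scheme.{u}} [IsNoetherian X] (i : X' ⟶ X) [IsClosedImmersion i]
  (j : U ⟶ X) [IsOpenImmersion j] (hU : Set.range j = (Set.range i)ᶜ)
  [(Scheme.Modules.pushforward i).Additive] [PreservesFiniteLimits (Scheme.Modules.pushforward i)]
  [PreservesFiniteColimits (Scheme.Modules.pushforward i)]
  [PreservesFiniteLimits (Scheme.Modules.restrictFunctor j)]
  (hi : ∀ M : X'.Modules, Coh.IsCoh M → Coh.IsCoh ((Scheme.Modules.pushforward i).obj M))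
  (hj : ∀ M : X.Modules, Coh.IsCoh M → Coh.IsCoh ((Scheme.Modules.restrictFunctor j).obj M))

/-- The image of the classes on the closed subscheme. -/
abbrev R : AddSubgroup (K X) :=
  (SGA6.mapSub (Scheme.Modules.pushforward i) (fun M : X'.Modules => Coh.IsCoh M) (fun M : X.Modules => Coh.IsCoh M) hi).range

theorem mem_R_of_supp {G : X.Modules} (hG : Coh.IsCoh G)
    (h : ∀ x : X, Nontrivial (G.presheaf.stalk x) → x ∈ Set.range ⇑i) : cl G ∈ R i hi := by
  obtain ⟨a, ha⟩ := (K0Fam.bijective_incl i).2 (KZero.clSub (K0Fam.P0 i) G)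
  obtain ⟨b, rfl⟩ := (K0Fam.bijective_push1 i).2 a
  refine ⟨b, ?_⟩
  have key : SGA6.mapSub (Scheme.Modules.pushforward i) (fun M : X'.Modules => Coh.IsCoh M) (fun M : X.Modules => Coh.IsCoh M) hi =
      ((SGA6.mapSub (𝟭 X.Modules) (K0Fam.P0 i) (fun M : X.Modules => Coh.IsCoh M) fun _ h => h.1).comp (K0Fam.incl i)).comp
        (SGA6.mapSub (Scheme.Modules.pushforward i) (fun M : X'.Modules => Coh.IsCoh M) (K0Fam.P1 i) fun _ h => K0Fam.p1_push i h) :=
    QuotientAddGroup.addMonoidHom_ext _ (FreeAbelianGroup.lift_ext _ _ fun M => rfl)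
  rw [key, AddMonoidHom.comp_apply, AddMonoidHom.comp_apply, ha]
  exact KRRAmple.mapSub_cl (𝟭 X.Modules) (K0Fam.P0 i) _ (fun _ h => h.1) ⟨hG, h⟩

include hU

theorem mem_R_kernel_cokernel {A B : X.Modules} (f : A ⟶ B)
    [IsIso ((Scheme.Modules.restrictFunctor j).map f)] (hA : Coh.IsCoh A) (hB : Coh.IsCoh B) :
    cl A - cl B ∈ R i hi := by
  rw [cl_sub f hA hB]
  obtain ⟨hk, hc⟩ := QCohLib.isCoh_kernel_cokernel f hA hB
  have key : ∀ x : X, x ∉ Set.range ⇑i →
      Subsingleton ((kernel f).presheaf.stalk x) ∧ Subsingleton ((cokernel f).presheaf.stalk x) := fun x hx => by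
    obtain ⟨y, rfl⟩ : x ∈ Set.range ⇑j := hU ▸ hx
    exact subsingleton_kernel_cokernel j f y
  exact sub_mem
    (mem_R_of_supp i hi hk fun x hx => by_contra fun hc' => not_subsingleton_iff_nontrivial.2 hx (key x hc').1)
    (mem_R_of_supp i hi hc fun x hx => by_contra fun hc' => not_subsingleton_iff_nontrivial.2 hx (key x hc').2)

theorem mem_R_of_iso {M M' : X.Modules} (hM : Coh.IsCoh M) (hM' : Coh.IsCoh M')
    (e : (Scheme.Modules.restrictFunctor j).obj M ≅ (Scheme.Modules.restrictFunctor j).obj M') :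
    cl M - cl M' ∈ R i hi := by
  obtain ⟨F', ι, φ', hF', hι, hφ'⟩ := exists_lift j hM hM' e.hom
  haveI : IsIso ((Scheme.Modules.restrictFunctor j).map φ') := hφ' ▸ inferInstance
  have := sub_mem (mem_R_kernel_cokernel i j hU hi φ' hF' hM') (mem_R_kernel_cokernel i j hU hi ι hF' hM)
  rwa [sub_sub_sub_cancel_left] at this

/-- A chosen extension. -/
def ext (N : {N : U.Modules // Coh.IsCoh N}) : X.Modules := (exists_ext j N.2).choose

omit hU in
theorem ext_spec (N : {N : U.Modules // Coh.IsCoh N}) :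
    Coh.IsCoh (ext j N) ∧ Nonempty ((Scheme.Modules.restrictFunctor j).obj (ext j N) ≅ N.1) :=
  (exists_ext j N.2).choose_spec

theorem relSub_le : KZero.relSub (fun N : U.Modules => Coh.IsCoh N) ≤
    (FreeAbelianGroup.lift fun N : {N : U.Modules // Coh.IsCoh N} =>
      (QuotientAddGroup.mk (cl (ext j N)) : K X ⧸ R i hi)).ker := by
  rw [KZero.relSub, AddSubgroup.closure_le]
  rintro _ ⟨S, h₁, h₂, h₃, hS, rfl⟩
  simp only [SetLike.mem_coe, AddMonoidHom.mem_ker, map_sub, FreeAbelianGroup.lift_apply_of]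
  obtain ⟨hM₁, ⟨a₁⟩⟩ := ext_spec j ⟨S.X₁, h₁⟩
  obtain ⟨hM₂, ⟨a₂⟩⟩ := ext_spec j ⟨S.X₂, h₂⟩
  obtain ⟨hM₃, ⟨a₃⟩⟩ := ext_spec j ⟨S.X₃, h₃⟩
  obtain ⟨F', ι, φ', hF', hι, hφ'⟩ := exists_lift j hM₂ hM₃ (a₂.hom ≫ S.g ≫ a₃.inv)
  obtain ⟨hk, hc⟩ := QCohLib.isCoh_kernel_cokernel φ' hF' hM₃
  let e₂ : (Scheme.Modules.restrictFunctor j).obj F' ≅ S.X₂ := asIso ((Scheme.Modules.restrictFunctor j).map ι) ≪≫ a₂
  have hsq : (Scheme.Modules.restrictFunctor j).map φ' ≫ a₃.hom = e₂.hom ≫ S.g := by
    simp [e₂, hφ']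
  let e₁ : (Scheme.Modules.restrictFunctor j).obj (kernel φ') ≅ (Scheme.Modules.restrictFunctor j).obj (ext j ⟨S.X₁, h₁⟩) :=
    PreservesKernel.iso _ φ' ≪≫ kernel.mapIso _ _ e₂ a₃ hsq ≪≫ Devissage.kerIso hS ≪≫ a₁.symm
  haveI : Epi ((Scheme.Modules.restrictFunctor j).map φ') := by
    haveI := hS.epi_g
    rw [show (Scheme.Modules.restrictFunctor j).map φ' = e₂.hom ≫ S.g ≫ a₃.inv by simp [e₂, hφ']]
    infer_instance
  have hcs : ∀ x : X, Nontrivial ((cokernel φ').presheaf.stalk x) → x ∈ Set.range ⇑i := fun x hx => by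
    by_contra hxi
    obtain ⟨y, rfl⟩ : x ∈ Set.range ⇑j := hU ▸ hxi
    refine not_subsingleton_iff_nontrivial.2 hx ((S13987.subsingleton_cokernel_iff φ' _).2 fun z => ?_)
    obtain ⟨w, rfl⟩ := (((Scheme.Modules.restrictStalkNatIso j y).app (ext j ⟨S.X₃, h₃⟩)).addCommGroupIsoToAddEquiv).surjective z
    obtain ⟨v, rfl⟩ := (epi_iff_stalk ((Scheme.Modules.restrictFunctor j).map φ')).1 inferInstance y w
    exact ⟨(Scheme.Modules.restrictStalkNatIso j y).hom.app F' v,
      (congr($((Scheme.Modules.restrictStalkNatIso j y).hom.naturality φ') v)).symm⟩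
  rw [sub_sub, sub_eq_zero, ← QuotientAddGroup.mk_add, QuotientAddGroup.eq]
  have hA := mem_R_of_iso i j hU hi hk hM₁ e₁
  have hB := mem_R_kernel_cokernel i j hU hi ι hF' hM₂
  have hC := mem_R_of_supp i hi hc hcs
  have hD := cl_sub φ' hF' hM₃
  have : -cl (ext j ⟨S.X₂, h₂⟩) + (cl (ext j ⟨S.X₁, h₁⟩) + cl (ext j ⟨S.X₃, h₃⟩)) =
      (cl F' - cl (ext j ⟨S.X₂, h₂⟩)) - (cl (kernel φ') - cl (ext j ⟨S.X₁, h₁⟩)) + cl (cokernel φ') := by
    rw [show cl F' = cl (kernel φ') - cl (cokernel φ') + cl (ext j ⟨S.X₃, h₃⟩) from eq_add_of_sub_eq hD]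
    abel
  rw [this]
  exact add_mem (sub_mem hB hA) hC

/-- The inverse of restriction modulo classes from the closed subscheme. -/
def back : K U →+ K X ⧸ R i hi :=
  QuotientAddGroup.lift _ _ (relSub_le i j hU hi)

theorem back_mapSub (x : K X) : back i j hU hi
    (SGA6.mapSub (Scheme.Modules.restrictFunctor j) (fun M : X.Modules => Coh.IsCoh M) (fun M : U.Modules => Coh.IsCoh M) hj x) =
      QuotientAddGroup.mk x := by
  refine DFunLike.congr_fun (show (back i j hU hi).comp (SGA6.mapSub (Scheme.Modules.restrictFunctor j) _ _ hj) =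
    QuotientAddGroup.mk' (R i hi) from QuotientAddGroup.addMonoidHom_ext _ (FreeAbelianGroup.lift_ext _ _ fun M => ?_)) x
  show back i j hU hi (QuotientAddGroup.mk (FreeAbelianGroup.of ⟨_, hj M.1 M.2⟩)) =
    QuotientAddGroup.mk' (R i hi) (QuotientAddGroup.mk (FreeAbelianGroup.of M))
  rw [show back i j hU hi (QuotientAddGroup.mk (FreeAbelianGroup.of ⟨_, hj M.1 M.2⟩)) = _ from
    FreeAbelianGroup.lift_apply_of _ _, QuotientAddGroup.mk'_apply, QuotientAddGroup.eq, neg_add_eq_sub,
    ← K0ResLib.clSub_of M.2]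
  obtain ⟨h, ⟨a⟩⟩ := ext_spec j ⟨_, hj M.1 M.2⟩
  exact mem_R_of_iso i j hU hi M.2 h a.symm

theorem ker_eq : (SGA6.mapSub (Scheme.Modules.restrictFunctor j) (fun M : X.Modules => Coh.IsCoh M) (fun M : U.Modules => Coh.IsCoh M) hj).ker =
    R i hi := by
  refine le_antisymm (fun x hx => ?_) ?_
  · rw [← QuotientAddGroup.eq_zero_iff, ← back_mapSub i j hU hi hj x, AddMonoidHom.mem_ker.1 hx, map_zero]
  · rintro _ ⟨b, rfl⟩
    haveI : IsLocallyNoetherian U := isLocallyNoetherian_of_isOpenImmersion j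
    refine AddMonoidHom.mem_ker.2 (DFunLike.congr_fun (show (SGA6.mapSub (Scheme.Modules.restrictFunctor j) _ _ hj).comp
      (SGA6.mapSub (Scheme.Modules.pushforward i) _ _ hi) = 0 from
      QuotientAddGroup.addMonoidHom_ext _ (FreeAbelianGroup.lift_ext _ _ fun M => ?_)) b)
    show QuotientAddGroup.mk (FreeAbelianGroup.of ⟨_, hj _ (hi M.1 M.2)⟩) = (0 : K U)
    refine (K0ResLib.clSub_of (P := fun M : U.Modules => Coh.IsCoh M) (hj _ (hi M.1 M.2))).symm.trans
      (cl_isZero (isZero_of_stalks fun y => ?_))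
    have hy : j y ∉ Set.range ⇑i := (hU ▸ Set.mem_range_self y : j y ∈ (Set.range ⇑i)ᶜ)
    have := (K0Fam.p1_push i M.2).2.subsingleton (j y) hy
    exact @Function.Injective.subsingleton _ _ _ (((Scheme.Modules.restrictStalkNatIso j y).app ((Scheme.Modules.pushforward i).obj M.1)).addCommGroupIsoToAddEquiv).injective this

omit hU in
theorem surjective : Function.Surjective
    (SGA6.mapSub (Scheme.Modules.restrictFunctor j) (fun M : X.Modules => Coh.IsCoh M) (fun M : U.Modules => Coh.IsCoh M) hj) := by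
  haveI : IsLocallyNoetherian U := isLocallyNoetherian_of_isOpenImmersion j
  intro z
  refine AddMonoidHom.mem_range.1 ?_
  induction z using QuotientAddGroup.induction_on with
  | H w =>
    induction w using FreeAbelianGroup.induction_on with
    | zero => exact zero_mem _
    | of N =>
      obtain ⟨M, hM, ⟨e⟩⟩ := exists_ext j N.2
      refine ⟨cl M, ?_⟩
      rw [KRRAmple.mapSub_cl _ _ _ hj hM, ← K0ResLib.clSub_of N.2]
      exact cl_iso e.symm N.2
    | neg N h => exact neg_mem h
    | add a b ha hb => exact add_mem ha hb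

end Sequence

end Groth.Agent.K0LocLib
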