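import Groth.Agent.K0LocLib.Basic
import Groth.Agent.UnitsAffSpace
import Groth.Agent.TildePullback.Basic
import Groth.Agent.BCLib.TensorFun

/-!
# The zero section of the affine line and `K₀`
-/

set_option autoImplicit false
set_option backward.isDefEq.respectTransparency false
set_option linter.style.haveILetI false
set_option linter.unusedSectionVars false

universe u

open CategoryTheory CategoryTheory.Limits AlgebraicGeometry TopologicalSpace MvPolynomial
open Groth.Agent.PullbackMod Groth.Agent.UnitsAffSpace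
open scoped TensorProduct

noncomputable section

namespace Groth.Agent.K0LocLib

section Ker

variable {X Y Z : Scheme.{u}}

/-- The kernel of the map of stalks is generated by a global function. -/
def KerGen (f : X ⟶ Y) (t : Γ(Y, ⊤)) (x : X) : Prop :=
  RingHom.ker (f.stalkMap x).hom ≤ Ideal.span {Y.presheaf.germ ⊤ (f x) trivial t}

theorem kerGen_congr {f g : X ⟶ Y} (e : f = g) (t : Γ(Y, ⊤)) (x : X) : KerGen f t x ↔ KerGen g t x := by
  subst e
  rfl

theorem kerGen_comp (h : X ⟶ Y) (G : Y ⟶ Z) [IsOpenImmersion G] (t : Γ(Z, ⊤)) (x : X)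
    (H : KerGen h (G.appTop t) x) : KerGen (h ≫ G) t x := by
  intro a ha
  have e := Scheme.Hom.stalkMap_comp h G x
  rw [RingHom.mem_ker, e] at ha
  obtain ⟨b, hb⟩ := Ideal.mem_span_singleton'.1 (H ha)
  let φ := (asIso (G.stalkMap (h x))).commRingCatIsoToRingEquiv
  obtain ⟨c, rfl⟩ := φ.surjective b
  refine Ideal.mem_span_singleton'.2 ⟨c, φ.injective ?_⟩
  rw [map_mul]
  exact (congrArg (φ c * ·) (Scheme.Hom.germ_stalkMap_apply G ⊤ (h x) trivial t)).trans hb

theorem kerGen_of_comp (j : X ⟶ Y) [IsOpenImmersion j] (s : Y ⟶ Z) (t : Γ(Z, ⊤)) (x : X)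
    (H : KerGen (j ≫ s) t x) : KerGen s t (j x) := by
  intro a ha
  refine H ?_
  rw [RingHom.mem_ker, Scheme.Hom.stalkMap_comp j s x]
  show (j.stalkMap x).hom ((s.stalkMap (j x)).hom a) = 0
  rw [RingHom.mem_ker.1 ha, map_zero]

theorem kerGen_of_affine [IsAffine X] [IsAffine Y] (h : X ⟶ Y) (t : Γ(Y, ⊤))
    (hs : Function.Surjective h.appTop) (hk : RingHom.ker h.appTop.hom ≤ Ideal.span {t}) (x : X) :
    KerGen h t x := by
  intro a ha
  letI := TopCat.Presheaf.algebra_section_stalk Y.presheaf (⟨h x, trivial⟩ : (⊤ : Y.Opens))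
  letI := TopCat.Presheaf.algebra_section_stalk X.presheaf (⟨x, trivial⟩ : (⊤ : X.Opens))
  haveI := (isAffineOpen_top Y).isLocalization_stalk ⟨h x, trivial⟩
  haveI := (isAffineOpen_top X).isLocalization_stalk ⟨x, trivial⟩
  obtain ⟨⟨f, w⟩, hfw⟩ := IsLocalization.surj ((isAffineOpen_top Y).primeIdealOf ⟨h x, trivial⟩).asIdeal.primeCompl a
  have hfw' : a * Y.presheaf.germ ⊤ (h x) trivial w.1 = Y.presheaf.germ ⊤ (h x) trivial f := hfw
  have h0 : algebraMap Γ(X, ⊤) (X.presheaf.stalk x) (h.appTop f) = 0 := by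
    show X.presheaf.germ ⊤ x trivial (h.appTop f) = 0
    refine (Scheme.Hom.germ_stalkMap_apply h ⊤ x trivial f).symm.trans ?_
    show (h.stalkMap x).hom (Y.presheaf.germ ⊤ (h x) trivial f) = 0
    rw [← hfw', map_mul, RingHom.mem_ker.1 ha, zero_mul]
  obtain ⟨⟨v, hv⟩, hv0⟩ := (IsLocalization.map_eq_zero_iff
    ((isAffineOpen_top X).primeIdealOf ⟨x, trivial⟩).asIdeal.primeCompl _ _).1 h0
  obtain ⟨v', rfl⟩ := hs v
  obtain ⟨g, hg⟩ := Ideal.mem_span_singleton'.1 (hk (show v' * f ∈ RingHom.ker h.appTop.hom by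
    rw [RingHom.mem_ker, map_mul]
    exact hv0))
  have hu : IsUnit (Y.presheaf.germ ⊤ (h x) trivial v') := by
    refine isUnit_of_map_unit (h.stalkMap x).hom _ ?_
    rw [show (h.stalkMap x).hom (Y.presheaf.germ ⊤ (h x) trivial v') = _ from
      Scheme.Hom.germ_stalkMap_apply h ⊤ x trivial v']
    exact IsLocalization.map_units (X.presheaf.stalk x) (⟨h.appTop v', hv⟩ :
      ((isAffineOpen_top X).primeIdealOf ⟨x, trivial⟩).asIdeal.primeCompl)
  have hw : IsUnit (Y.presheaf.germ ⊤ (h x) trivial w.1) := IsLocalization.map_units (Y.presheaf.stalk (h x)) w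
  have hmem : Y.presheaf.germ ⊤ (h x) trivial f ∈ Ideal.span {Y.presheaf.germ ⊤ (h x) trivial t} := by
    refine (Ideal.unit_mul_mem_iff_mem _ hu).1 (Ideal.mem_span_singleton'.2 ⟨Y.presheaf.germ ⊤ (h x) trivial g, ?_⟩)
    rw [← map_mul, ← map_mul, hg]
  rw [← hfw', mul_comm] at hmem
  exact (Ideal.unit_mul_mem_iff_mem _ hw).1 hmem

end Ker

theorem smulModΓ_zero {X : Scheme.{u}} (M : X.Modules) : Formal.smulModΓ M (0 : Γ(X, ⊤)) = 0 :=
  (eq_zero_iff_stalk _).2 fun x => LinearMap.ext fun z => by
    refine (BCLib.stalkLin_smulModΓ M _ x z).trans ?_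
    rw [map_zero, zero_smul]
    rfl

theorem smulModΓ_naturality {X : Scheme.{u}} {M N : X.Modules} (g : M ⟶ N) (r : Γ(X, ⊤)) :
    Formal.smulModΓ M r ≫ g = g ≫ Formal.smulModΓ N r :=
  hom_ext_stalk fun x => by
    rw [stalkLin_comp, stalkLin_comp]
    refine LinearMap.ext fun z => ?_
    rw [LinearMap.comp_apply, LinearMap.comp_apply, BCLib.stalkLin_smulModΓ, BCLib.stalkLin_smulModΓ, map_smul]

variable {n : Type u} [Unique n]

theorem sub_C_mem_span {A : Type u} [CommRing A] (f : MvPolynomial n A) :
    f - C (constantCoeff f) ∈ Ideal.span {(X default : MvPolynomial n A)} := by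
  induction f using MvPolynomial.induction_on with
  | C a => simp
  | add f g hf hg => convert add_mem hf hg using 1; simp only [map_add]; ring
  | mul_X f i hf =>
    rw [Unique.eq_default i]
    simp [Ideal.mem_span_singleton']

section Chart

variable {X : Scheme.{u}} {A : CommRingCat.{u}} (j : Spec A ⟶ X)

/-- The affine line over an affine open, inside the affine line. -/
def chart : Spec (CommRingCat.of (MvPolynomial n A)) ⟶ 𝔸(n; X) :=
  (AffineSpace.SpecIso n A).inv ≫ AffineSpace.map n j

theorem chart_over : chart (n := n) j ≫ 𝔸(n; X) ↘ X = Spec.map (CommRingCat.ofHom C) ≫ j := by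
  rw [chart, Category.assoc, AffineSpace.map_over, AffineSpace.SpecIso_inv_over_assoc]

theorem chart_coord (i : n) : (chart j).appTop (AffineSpace.coord X i) =
    (Scheme.ΓSpecIso (CommRingCat.of (MvPolynomial n A))).inv (MvPolynomial.X i) := by
  rw [chart, Scheme.Hom.comp_appTop, CommRingCat.comp_apply, AffineSpace.map_appTop_coord,
    AffineSpace.SpecIso_inv_appTop_coord]

/-- Evaluation at zero. -/
def ev0 (A : CommRingCat.{u}) : CommRingCat.of (MvPolynomial n A) ⟶ A :=
  CommRingCat.ofHom (constantCoeff : MvPolynomial n A →+* A)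

theorem ev0_chart : Spec.map (ev0 A) ≫ chart (n := n) j = j ≫ zeroSec n X := by
  apply AffineSpace.hom_ext
  · rw [Category.assoc, chart_over, Category.assoc, zeroSec_over, Category.comp_id, ← Category.assoc,
      ← Spec.map_comp]
    have : CommRingCat.ofHom (C : A →+* MvPolynomial n A) ≫ ev0 A = 𝟙 A := by
      ext a
      simp [ev0]
      rfl
    rw [this, Spec.map_id, Category.id_comp]
  · intro i
    rw [Scheme.Hom.comp_appTop, Scheme.Hom.comp_appTop, CommRingCat.comp_apply, CommRingCat.comp_apply, chart_coord,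
      zeroSec, AffineSpace.homOfVector_appTop_coord, ← CommRingCat.comp_apply, ← Scheme.ΓSpecIso_inv_naturality,
      CommRingCat.comp_apply]
    simp [ev0]

theorem kerGen_ev0 (q : Spec A) : KerGen (Spec.map (ev0 A))
    ((Scheme.ΓSpecIso (CommRingCat.of (MvPolynomial n A))).inv (MvPolynomial.X default)) q := by
  let eS := (Scheme.ΓSpecIso (CommRingCat.of (MvPolynomial n A))).commRingCatIsoToRingEquiv
  let eA := (Scheme.ΓSpecIso A).commRingCatIsoToRingEquiv
  have hnat : ∀ f, eA ((Spec.map (ev0 A)).appTop f) = constantCoeff (eS f) :=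
    fun f => congr($(Scheme.ΓSpecIso_naturality (ev0 A)) f)
  refine kerGen_of_affine _ _ (fun a => ?_) (fun f hf => ?_) q
  · refine ⟨eS.symm (C (eA a)), eA.injective ?_⟩
    rw [hnat, eS.apply_symm_apply, constantCoeff_C]
  · have h0 : constantCoeff (eS f) = 0 := by rw [← hnat, RingHom.mem_ker.1 hf, map_zero]
    obtain ⟨g, hg⟩ := Ideal.mem_span_singleton'.1 (sub_C_mem_span (eS f))
    rw [h0, map_zero, sub_zero] at hg
    refine Ideal.mem_span_singleton'.2 ⟨eS.symm g, eS.injective ?_⟩
    rw [map_mul, eS.apply_symm_apply]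
    exact (congrArg (g * ·) (eS.apply_symm_apply _)).trans hg

variable [IsOpenImmersion j]

instance isOpenImmersion_chart : IsOpenImmersion (chart (n := n) j) := by
  haveI : IsOpenImmersion (AffineSpace.map n j) :=
    MorphismProperty.of_isPullback (AffineSpace.isPullback_map j).flip inferInstance
  unfold chart
  infer_instance

theorem kerGen_zeroSec (q : Spec A) : KerGen (zeroSec n X) (AffineSpace.coord X default) (j q) := by
  refine kerGen_of_comp j _ _ q ((kerGen_congr (ev0_chart j) _ q).1 (kerGen_comp _ _ _ q ?_))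
  rw [chart_coord]
  exact kerGen_ev0 q

theorem exists_preimage (z : 𝔸(n; X)) (q : Spec A) (hq : j q = (𝔸(n; X) ↘ X) z) :
    ∃ P, chart (n := n) j P = z := by
  obtain ⟨z', hz', -⟩ := Scheme.exists_preimage_of_isPullback (AffineSpace.isPullback_map (n := n) j) z q hq.symm
  refine ⟨(AffineSpace.SpecIso n A).hom z', ?_⟩
  rw [chart, ← Scheme.Hom.comp_apply, Iso.hom_inv_id_assoc]
  exact hz'

theorem mem_range_chart (P : Spec (CommRingCat.of (MvPolynomial n A)))
    (hP : ¬ IsUnit ((Spec (CommRingCat.of (MvPolynomial n A))).presheaf.germ ⊤ P trivial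
      ((Scheme.ΓSpecIso (CommRingCat.of (MvPolynomial n A))).inv (MvPolynomial.X default)))) :
    P ∈ Set.range (Spec.map (ev0 (n := n) A)) := by
  have hXP : (MvPolynomial.X default : MvPolynomial n A) ∈ P.asIdeal := by
    by_contra h
    apply hP
    have hmem : P ∈ (Spec (CommRingCat.of (MvPolynomial n A))).basicOpen
        ((Scheme.ΓSpecIso (CommRingCat.of (MvPolynomial n A))).inv (MvPolynomial.X default)) := by
      rw [basicOpen_eq_of_affine]
      exact h
    rw [Scheme.mem_basicOpen_top] at hmem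
    exact hmem
  have hsurj : Function.Surjective (constantCoeff : MvPolynomial n A →+* A) := fun a => ⟨C a, constantCoeff_C _ a⟩
  show P ∈ Set.range (PrimeSpectrum.comap (constantCoeff : MvPolynomial n A →+* A))
  rw [range_comap_of_surjective _ _ hsurj]
  intro f hf
  have := sub_C_mem_span f
  rw [RingHom.mem_ker.1 hf, map_zero, sub_zero] at this
  exact Ideal.span_le.2 (Set.singleton_subset_iff.2 hXP) this

/-- Multiplication by an element with a linear left inverse is injective after base change. -/
theorem mono_smul_extend {R S : CommRingCat.{u}} (φ : R ⟶ S) (x : S) (d : S →+ S)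
    (hd1 : ∀ (r : R) (s : S), d (φ.hom r * s) = φ.hom r * d s) (hd2 : ∀ s : S, d (x * s) = s) (N : ModuleCat.{u} R) :
    Mono (x • 𝟙 ((ModuleCat.extendScalars φ.hom).obj N)) := by
  rw [ModuleCat.mono_iff_injective]
  letI := φ.hom.toAlgebra
  let dl : S →ₗ[R] S := { d with map_smul' := hd1 }
  have hd : dl ∘ₗ LinearMap.mulLeft R x = LinearMap.id := LinearMap.ext hd2
  have hl : Function.LeftInverse (dl.rTensor N) ((LinearMap.mulLeft R x).rTensor N) :=
    fun w => by rw [← LinearMap.comp_apply, ← LinearMap.rTensor_comp, hd, LinearMap.rTensor_id]; rfl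
  have key : ∀ w : S ⊗[R] N, (LinearMap.mulLeft R x).rTensor N w = x • w := fun w => by
    induction w using TensorProduct.induction_on with
    | zero => simp
    | tmul f m => rw [LinearMap.rTensor_tmul, TensorProduct.smul_tmul']; rfl
    | add a b ha hb => rw [map_add, smul_add, ha, hb]
  have hinj : Function.Injective fun w : S ⊗[R] N => x • w :=
    fun a b hab => hl.injective ((key a).trans (Eq.trans hab (key b).symm))
  intro a b hab
  exact @hinj a b hab

/-- Multiplication by the coordinate on a base change is injective. -/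
theorem injective_X_rTensor (N : ModuleCat.{u} A) :
    Mono ((MvPolynomial.X default : MvPolynomial n A) •
      𝟙 ((ModuleCat.extendScalars (CommRingCat.ofHom (C : A →+* MvPolynomial n A)).hom).obj N)) :=
  mono_smul_extend (CommRingCat.ofHom (C : A →+* MvPolynomial n A)) (MvPolynomial.X default)
    { toFun := fun f : MvPolynomial n A => f.divMonomial (Finsupp.single default 1)
      map_zero' := MvPolynomial.zero_divMonomial _
      map_add' := fun f g => add_divMonomial f g _ }
    (fun a f => by
      show MvPolynomial.divMonomial (C a * f) _ = C a * MvPolynomial.divMonomial f _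
      ext m
      simp [coeff_divMonomial, coeff_C_mul])
    (fun f => X_mul_divMonomial default f) N

theorem mono_pullback_chart {M : X.Modules} [Coh.IsQCoh M] :
    Mono ((Scheme.Modules.pullback (chart (n := n) j)).map
      (Formal.smulModΓ ((Scheme.Modules.pullback (𝔸(n; X) ↘ X)).obj M) (AffineSpace.coord X default))) := by
  haveI : Coh.IsQCoh ((Scheme.Modules.pullback (𝔸(n; X) ↘ X)).obj M) := PullbackMod.isQCoh_pullback _ _
  rw [BCLib.pullback_map_smulModΓ, chart_coord]
  haveI : Coh.IsQCoh ((Scheme.Modules.pullback j).obj M) := PullbackMod.isQCoh_pullback _ _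
  haveI := Scheme.Modules.isIso_fromTildeΓ_of_isQuasicoherent ((Scheme.Modules.pullback j).obj M)
  let N := moduleSpecΓFunctor.obj ((Scheme.Modules.pullback j).obj M)
  let P := (ModuleCat.extendScalars (CommRingCat.ofHom (C : A →+* MvPolynomial n A)).hom).obj N
  let e : (Scheme.Modules.pullback (chart (n := n) j)).obj ((Scheme.Modules.pullback (𝔸(n; X) ↘ X)).obj M) ≅
      tilde (R := CommRingCat.of (MvPolynomial n A)) P :=
    (Scheme.Modules.pullbackComp _ _).app M ≪≫ (Scheme.Modules.pullbackCongr (chart_over j)).app M ≪≫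
      ((Scheme.Modules.pullbackComp _ _).app M).symm ≪≫
      (Scheme.Modules.pullback (Spec.map (CommRingCat.ofHom (C : A →+* MvPolynomial n A)))).mapIso
        (asIso ((Scheme.Modules.pullback j).obj M).fromTildeΓ).symm ≪≫
      (TildePullback.tildePullbackIso (CommRingCat.ofHom (C : A →+* MvPolynomial n A))).app N
  haveI := injective_X_rTensor (n := n) N
  haveI : Mono (Formal.smulModΓ (tilde (R := CommRingCat.of (MvPolynomial n A)) P)
      ((Scheme.ΓSpecIso (CommRingCat.of (MvPolynomial n A))).inv (MvPolynomial.X default))) := by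
    rw [← BCLib.tilde_map_smul]
    exact TildeD.mono_tilde_map _
  rw [← Category.comp_id (Formal.smulModΓ _ _), ← e.hom_inv_id, ← Category.assoc, smulModΓ_naturality e.hom]
  infer_instance

end Chart

section Main

variable (X : Scheme.{u})

theorem zeroSec_coord (i : n) : (zeroSec n X).appTop (AffineSpace.coord X i) = 0 :=
  AffineSpace.homOfVector_appTop_coord _ _ _

theorem isClosedImmersion_zeroSec : IsClosedImmersion (zeroSec n X) := by
  haveI : IsClosedImmersion (zeroSec n X ≫ 𝔸(n; X) ↘ X) := by
    rw [zeroSec_over]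
    infer_instance
  exact IsClosedImmersion.of_comp (zeroSec n X) (𝔸(n; X) ↘ X)

theorem range_zeroSec : Set.range (zeroSec n X) =
    ((𝔸(n; X)).basicOpen (AffineSpace.coord X (default : n)) : Set 𝔸(n; X))ᶜ := by
  ext z
  constructor
  · rintro ⟨x, rfl⟩ hx
    have : x ∈ X.basicOpen ((zeroSec n X).appTop (AffineSpace.coord X (default : n))) := by
      rw [← Scheme.preimage_basicOpen_top]
      exact hx
    rw [zeroSec_coord, Scheme.basicOpen_zero] at this
    exact this
  · intro hz
    obtain ⟨i, q, hq⟩ := X.affineOpenCover.openCover.exists_eq ((𝔸(n; X) ↘ X) z)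
    obtain ⟨P, rfl⟩ := exists_preimage (n := n) (X.affineOpenCover.f i) z q hq
    obtain ⟨r, rfl⟩ := mem_range_chart (n := n) P fun hu => hz (by
      show chart (X.affineOpenCover.f i) P ∈ (𝔸(n; X)).basicOpen (AffineSpace.coord X default)
      have : P ∈ (Spec _).basicOpen ((chart (X.affineOpenCover.f i)).appTop (AffineSpace.coord X (default : n))) := by
        rw [chart_coord, Scheme.mem_basicOpen_top]
        exact hu
      rw [← Scheme.preimage_basicOpen_top] at this
      exact this)
    exact ⟨X.affineOpenCover.f i r, congr(($(ev0_chart (n := n) (X.affineOpenCover.f i))) r).symm⟩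

theorem kerGen_all (x : X) : KerGen (zeroSec n X) (AffineSpace.coord X (default : n)) x := by
  obtain ⟨i, q, rfl⟩ := X.affineOpenCover.openCover.exists_eq x
  exact kerGen_zeroSec _ q

theorem mono_smul_coord (M : X.Modules) [Coh.IsQCoh M] :
    Mono (Formal.smulModΓ ((Scheme.Modules.pullback (𝔸(n; X) ↘ X)).obj M) (AffineSpace.coord X default)) := by
  refine (mono_iff_stalk _).2 fun z => ?_
  obtain ⟨i, q, hq⟩ := X.affineOpenCover.openCover.exists_eq ((𝔸(n; X) ↘ X) z)
  obtain ⟨P, rfl⟩ := exists_preimage (n := n) (X.affineOpenCover.f i) z q hq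
  let G := chart (n := n) (X.affineOpenCover.f i)
  let f := Formal.smulModΓ ((Scheme.Modules.pullback (𝔸(n; X) ↘ X)).obj M) (AffineSpace.coord X default)
  haveI := mono_pullback_chart (n := n) (X.affineOpenCover.f i) (M := M)
  haveI : Mono ((Scheme.Modules.restrictFunctor G).map f) := by
    haveI : Mono ((Scheme.Modules.restrictFunctor G).map f ≫ (Scheme.Modules.restrictFunctorIsoPullback G).hom.app _) := by
      rw [(Scheme.Modules.restrictFunctorIsoPullback G).hom.naturality f]
      infer_instance
    exact mono_of_mono _ ((Scheme.Modules.restrictFunctorIsoPullback G).hom.app _)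
  let eA := ((Scheme.Modules.restrictStalkNatIso G P).app ((Scheme.Modules.pullback (𝔸(n; X) ↘ X)).obj M)).addCommGroupIsoToAddEquiv
  intro a b hab
  obtain ⟨a, rfl⟩ := eA.surjective a
  obtain ⟨b, rfl⟩ := eA.surjective b
  refine congrArg eA ((mono_iff_stalk ((Scheme.Modules.restrictFunctor G).map f)).1 inferInstance P ?_)
  apply eA.injective
  exact (congr($((Scheme.Modules.restrictStalkNatIso G P).hom.naturality f) a)).trans
    (hab.trans (congr($((Scheme.Modules.restrictStalkNatIso G P).hom.naturality f) b)).symm)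

variable [IsNoetherian X] [IsClosedImmersion (zeroSec n X)] [IsLocallyNoetherian 𝔸(n; X)]

/-- The cokernel of the coordinate on an extended module. -/
theorem nonempty_coker_iso {M : X.Modules} (hM : Coh.IsCoh M) :
    Nonempty (cokernel (Formal.smulModΓ ((Scheme.Modules.pullback (𝔸(n; X) ↘ X)).obj M) (AffineSpace.coord X default)) ≅
      (Scheme.Modules.pushforward (zeroSec n X)).obj M) := by
  haveI : Coh.IsQCoh M := hM.1
  let p := 𝔸(n; X) ↘ X
  let s := zeroSec n X
  let t : Γ(𝔸(n; X), ⊤) := AffineSpace.coord X (default : n)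
  let B := (Scheme.Modules.pullback p).obj M
  have hB : Coh.IsCoh B := PullbackMod.isCoh_pullback p M hM
  haveI : Coh.IsQCoh B := hB.1
  let f : B ⟶ B := Formal.smulModΓ B t
  let Q := cokernel f
  have htQ : ∀ (z : 𝔸(n; X)) (w : Q.presheaf.stalk z), 𝔸(n; X).presheaf.germ ⊤ z trivial t • w = 0 := fun z w => by
    obtain ⟨v, rfl⟩ := (epi_iff_stalk (cokernel.π f)).1 inferInstance z w
    rw [← map_smul, ← BCLib.stalkLin_smulModΓ B t z v]
    have h := (eq_zero_iff_stalk _).1 (cokernel.condition f) z
    rw [stalkLin_comp] at h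
    exact LinearMap.congr_fun h v
  have hsupp : DCohLib.SuppOn s Q :=
    { subsingleton := fun z hz => by
        rw [range_zeroSec X, Set.mem_compl_iff, not_not] at hz
        have hu : IsUnit (𝔸(n; X).presheaf.germ ⊤ z trivial t) := (Scheme.mem_basicOpen_top _ _ _).1 hz
        exact subsingleton_of_forall_eq 0 fun w => (hu.smul_eq_zero).1 (htQ z w)
      smul_eq_zero := fun x a ha w => by
        obtain ⟨b, rfl⟩ := Ideal.mem_span_singleton'.1 (kerGen_all (n := n) X x (RingHom.mem_ker.2 ha))
        rw [mul_smul, htQ, smul_zero] }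
  haveI := DCohLib.isIso_unit_of_suppOn s hsupp
  have hf0 : (Scheme.Modules.pullback s).map f = 0 := by
    rw [BCLib.pullback_map_smulModΓ, show s.appTop t = 0 from zeroSec_coord X _]
    exact smulModΓ_zero _
  haveI : PreservesColimitsOfSize.{0, 0} (Scheme.Modules.pullback s) :=
    (Scheme.Modules.pullbackPushforwardAdjunction s).leftAdjoint_preservesColimits
  let e : (Scheme.Modules.pullback s).obj Q ≅ M :=
    PreservesCokernel.iso (Scheme.Modules.pullback s) f ≪≫ cokernelIsoOfEq hf0 ≪≫ cokernelZeroIsoTarget ≪≫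
      (Scheme.Modules.pullbackComp s p).app M ≪≫ (Scheme.Modules.pullbackCongr (zeroSec_over n X)).app M ≪≫
      (Scheme.Modules.pullbackId X).app M
  exact ⟨asIso ((Scheme.Modules.pullbackPushforwardAdjunction s).unit.app Q) ≪≫
    (Scheme.Modules.pushforward s).mapIso e⟩

theorem cl_push_zeroSec {M : X.Modules} (hM : Coh.IsCoh M) :
    cl ((Scheme.Modules.pushforward (zeroSec n X)).obj M) = 0 := by
  haveI : Coh.IsQCoh M := hM.1
  obtain ⟨e⟩ := nonempty_coker_iso (n := n) X hM
  let f := Formal.smulModΓ ((Scheme.Modules.pullback (𝔸(n; X) ↘ X)).obj M) (AffineSpace.coord X (default : n))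
  haveI : Mono f := mono_smul_coord (n := n) X M
  have hB : Coh.IsCoh ((Scheme.Modules.pullback (𝔸(n; X) ↘ X)).obj M) := PullbackMod.isCoh_pullback _ M hM
  have h := cl_sub f hB hB
  rw [sub_self, cl_isZero (isZero_kernel_of_mono f), zero_sub] at h
  exact (cl_iso e (QCohLib.isCoh_kernel_cokernel f hB hB).2).trans (neg_eq_zero.1 h.symm)

end Main

end Groth.Agent.K0LocLib
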