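import Groth.Agent.K0LocLib.A1
import Groth.Agent.DCohLib.StalkRestrictFree
import Mathlib.RingTheory.SimpleModule.Basic

/-!
# Stalks on a chart of the affine line
-/

set_option autoImplicit false
set_option backward.isDefEq.respectTransparency false
set_option linter.style.haveILetI false
set_option linter.unusedSectionVars false

universe u

open CategoryTheory CategoryTheory.Limits AlgebraicGeometry TopologicalSpace MvPolynomial
open Groth.Agent.PullbackMod Groth.Agent.UnitsAffSpace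
open scoped TensorProduct

noncomputable section

namespace Groth.Agent.K0LocLib

section Transfer

theorem isSimpleModule_semilinear {R S : Type u} [Ring R] [Ring S] {M N : Type u} [AddCommGroup M]
    [AddCommGroup N] [Module R M] [Module S N] (σ : R ≃+* S) (e : M ≃+ N)
    (h : ∀ (r : R) (m : M), e (r • m) = σ r • e m) : IsSimpleModule R M ↔ IsSimpleModule S N := by
  rw [isSimpleModule_iff_toSpanSingleton_surjective, isSimpleModule_iff_toSpanSingleton_surjective,
    e.toEquiv.nontrivial_congr]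
  refine and_congr Iff.rfl ⟨fun H x hx y => ?_, fun H x hx y => ?_⟩
  · obtain ⟨r, hr⟩ := H (e.symm x) (by simpa using hx) (e.symm y)
    refine ⟨σ r, ?_⟩
    have := h r (e.symm x)
    rw [e.apply_symm_apply] at this
    show σ r • x = y
    rw [← this, show r • e.symm x = e.symm y from hr, e.apply_symm_apply]
  · obtain ⟨s, hs⟩ := H (e x) (by simpa using hx) (e y)
    refine ⟨σ.symm s, e.injective ?_⟩
    show e (σ.symm s • x) = e y
    rw [h, σ.apply_symm_apply]
    exact hs

variable {X U : Scheme.{u}} (j : U ⟶ X) [IsOpenImmersion j]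

theorem simple_restrict_iff (M : X.Modules) (y : U) :
    IsSimpleModule (U.presheaf.stalk y) (((Scheme.Modules.restrictFunctor j).obj M).presheaf.stalk y) ↔
      IsSimpleModule (X.presheaf.stalk (j y)) (M.presheaf.stalk (j y)) :=
  isSimpleModule_semilinear (asIso (j.stalkMap y)).commRingCatIsoToRingEquiv.symm
    ((Scheme.Modules.restrictStalkNatIso j y).app M).addCommGroupIsoToAddEquiv
    (DCohLib.restrictStalk_smul j M y)

theorem subsingleton_restrict_iff (M : X.Modules) (y : U) :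
    Subsingleton (((Scheme.Modules.restrictFunctor j).obj M).presheaf.stalk y) ↔
      Subsingleton (M.presheaf.stalk (j y)) :=
  ((Scheme.Modules.restrictStalkNatIso j y).app M).addCommGroupIsoToAddEquiv.toEquiv.subsingleton_congr

theorem simple_iff_of_iso {M N : X.Modules} (e : M ≅ N) (x : X) :
    IsSimpleModule (X.presheaf.stalk x) (M.presheaf.stalk x) ↔
      IsSimpleModule (X.presheaf.stalk x) (N.presheaf.stalk x) :=
  let l : M.presheaf.stalk x ≃ₗ[X.presheaf.stalk x] N.presheaf.stalk x := ((DCohLib.stkF x).mapIso e).toLinearEquiv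
  ⟨fun _ => IsSimpleModule.congr l.symm, fun _ => IsSimpleModule.congr l⟩

end Transfer

section Tilde

variable {R : CommRingCat.{u}}

/-- The stalk of a tilde is generated by one element killed by the prime. -/
theorem simple_tilde_stalk (L : ModuleCat.{u} R) (P : PrimeSpectrum R) (e : L)
    (hgen : ∀ m : L, ∃ s ∉ P.asIdeal, ∃ r : R, s • m = r • e)
    (hkill : ∀ h ∈ P.asIdeal, ∃ s ∉ P.asIdeal, s • (h • e) = 0)
    (hne : ∀ s ∉ P.asIdeal, s • e ≠ 0) :
    IsSimpleModule ((Spec R).presheaf.stalk P) ((tilde L).presheaf.stalk P) := by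
  letI : Algebra R ((Spec R).presheaf.stalk P) := StructureSheaf.stalkAlgebra R P
  haveI : IsLocalization.AtPrime ((Spec R).presheaf.stalk P) P.asIdeal := StructureSheaf.IsLocalization.to_stalk R P
  let ι := (tilde.toStalk L P).hom
  let T : R →+* (Spec R).presheaf.stalk P := (StructureSheaf.toStalk R P).hom
  have hunit : ∀ s ∉ P.asIdeal, IsUnit (T s) := fun s hs =>
    IsLocalization.map_units ((Spec R).presheaf.stalk P) (⟨s, hs⟩ : P.asIdeal.primeCompl)
  have hE : ι e ≠ 0 := fun h0 => by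
    obtain ⟨⟨s, hs⟩, hs0⟩ := (IsLocalizedModule.eq_zero_iff P.asIdeal.primeCompl ι).1 h0
    exact hne s hs hs0
  rw [isSimpleModule_iff_toSpanSingleton_surjective]
  refine ⟨⟨⟨_, 0, hE⟩⟩, fun z hz => ?_⟩
  have hall : ∀ w : (tilde L).presheaf.stalk P, ∃ (s : R) (_ : s ∉ P.asIdeal) (r : R), T s • w = T r • ι e :=
    fun w => by
      obtain ⟨⟨m, s⟩, hm⟩ := IsLocalizedModule.surj P.asIdeal.primeCompl ι w
      obtain ⟨s', hs', r, hr⟩ := hgen m
      refine ⟨s' * s.1, fun h => (P.isPrime.mem_or_mem h).elim hs' s.2, r, ?_⟩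
      show (s' * s.1) • w = r • ι e
      rw [mul_smul, show s.1 • w = ι m from hm, ← map_smul, hr, map_smul]
  obtain ⟨s, hs, r, hr⟩ := hall z
  have hrP : r ∉ P.asIdeal := fun h => by
    obtain ⟨v, hv, hv0⟩ := hkill r h
    refine hz ((((hunit v hv).mul (hunit s hs)).smul_eq_zero).1 ?_)
    rw [mul_smul, hr]
    show v • (r • ι e) = 0
    rw [← map_smul, ← map_smul, hv0, map_zero]
  intro w
  obtain ⟨s₂, hs₂, r₂, hr₂⟩ := hall w
  obtain ⟨u₂, hu₂⟩ := hunit s₂ hs₂
  obtain ⟨ur, hur⟩ := hunit r hrP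
  refine ⟨↑u₂⁻¹ * (T r₂ * (↑ur⁻¹ * T s)), ?_⟩
  show (↑u₂⁻¹ * (T r₂ * (↑ur⁻¹ * T s))) • z = w
  rw [mul_smul, mul_smul, mul_smul, hr, ← hur, smul_smul (↑ur⁻¹ : (Spec R).presheaf.stalk P), Units.inv_mul, one_smul,
    ← hr₂, smul_smul, ← hu₂, Units.inv_mul, one_smul]

theorem subsingleton_tilde_stalk (L : ModuleCat.{u} R) (y : PrimeSpectrum R)
    (h : ∀ m : L, ∃ s ∉ y.asIdeal, s • m = 0) : Subsingleton ((tilde L).presheaf.stalk y) :=
  subsingleton_of_forall_eq 0 fun w => by
    let ι := (tilde.toStalk L y).hom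
    obtain ⟨⟨m, s⟩, hm⟩ := IsLocalizedModule.surj y.asIdeal.primeCompl ι w
    obtain ⟨v, hv, hv0⟩ := h m
    refine (IsLocalizedModule.smul_inj ι (⟨v, hv⟩ * s) w 0).1 ?_
    rw [smul_zero, mul_smul, hm]
    show v • ι m = 0
    rw [← map_smul, hv0, map_zero]

/-- A finite module with simple stalk is generically cyclic. -/
theorem exists_cyclic [IsNoetherianRing R] (N : ModuleCat.{u} R) [Module.Finite R N] (q : PrimeSpectrum R)
    (hs : IsSimpleModule ((Spec R).presheaf.stalk q) ((tilde N).presheaf.stalk q)) :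
    ∃ (n : N) (a : R), a ∉ q.asIdeal ∧ (∀ m : N, ∃ t : R, a • m = t • n) ∧ (∀ r : R, r • n = 0 ↔ r ∈ q.asIdeal) := by
  letI : Algebra R ((Spec R).presheaf.stalk q) := StructureSheaf.stalkAlgebra R q
  haveI : IsLocalization.AtPrime ((Spec R).presheaf.stalk q) q.asIdeal := StructureSheaf.IsLocalization.to_stalk R q
  let ι := (tilde.toStalk N q).hom
  let T : R →+* (Spec R).presheaf.stalk q := (StructureSheaf.toStalk R q).hom
  haveI := hs.nontrivial
  obtain ⟨w, hw⟩ := exists_ne (0 : (tilde N).presheaf.stalk q)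
  obtain ⟨⟨n, s⟩, hn⟩ := IsLocalizedModule.surj q.asIdeal.primeCompl ι w
  have hn0 : ι n ≠ 0 := fun h0 => hw ((IsLocalizedModule.smul_inj ι s w 0).1 (by rw [hn, h0, smul_zero]))
  have hgen : ∀ m : N, ∃ v ∉ q.asIdeal, ∃ t : R, v • m = t • n := fun m => by
    obtain ⟨c, hc⟩ := IsSimpleModule.toSpanSingleton_surjective ((Spec R).presheaf.stalk q) hn0 (ι m)
    obtain ⟨⟨t, v⟩, hv⟩ := IsLocalization.surj q.asIdeal.primeCompl c
    have hv' : c * T v.1 = T t := hv
    have h1 : ι (v.1 • m) = ι (t • n) := by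
      rw [map_smul, map_smul]
      show T v.1 • ι m = T t • ι n
      rw [← show c • ι n = ι m from hc, smul_smul, mul_comm, hv']
    obtain ⟨⟨w', hw'⟩, hz⟩ := (IsLocalizedModule.eq_iff_exists q.asIdeal.primeCompl ι).1 h1
    exact ⟨w' * v.1, fun h => (q.isPrime.mem_or_mem h).elim hw' v.2, w' * t, by
      rw [mul_smul, mul_smul]; exact hz⟩
  have hkill : ∀ h ∈ q.asIdeal, ∃ v ∉ q.asIdeal, v • (h • n) = 0 := fun h hh => by
    by_contra hc
    push Not at hc
    have hne : ι (h • n) ≠ 0 := fun h0 => by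
      obtain ⟨⟨v, hv⟩, hv0⟩ := (IsLocalizedModule.eq_zero_iff q.asIdeal.primeCompl ι).1 h0
      exact hc v hv hv0
    obtain ⟨c, hcn⟩ := IsSimpleModule.toSpanSingleton_surjective ((Spec R).presheaf.stalk q) hne (ι n)
    have h3 : (c * T h) • ι n = ι n := by
      rw [mul_smul]
      refine Eq.trans ?_ hcn
      show c • (h • ι n) = c • ι (h • n)
      rw [map_smul]
    have hm : ¬ IsUnit (T h) := fun hu => by
      have := (IsLocalization.AtPrime.isUnit_to_map_iff ((Spec R).presheaf.stalk q) q.asIdeal h).1 hu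
      exact this hh
    have hu : IsUnit (1 - c * T h) :=
      IsLocalRing.isUnit_one_sub_self_of_mem_nonunits _ (fun hu => hm (isUnit_of_mul_isUnit_right hu))
    refine hn0 (hu.smul_eq_zero.1 ?_)
    rw [sub_smul, one_smul, h3, sub_self]
  obtain ⟨S, hS⟩ := Module.Finite.fg_top (R := R) (M := N)
  obtain ⟨Q, hQ⟩ := q.asIdeal.fg_of_isNoetherianRing
  choose v hv t ht using hgen
  have hkill' : ∀ h : R, ∃ w ∉ q.asIdeal, h ∈ q.asIdeal → w • (h • n) = 0 := fun h => by
    by_cases hh : h ∈ q.asIdeal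
    · obtain ⟨w', hw', h0⟩ := hkill h hh
      exact ⟨w', hw', fun _ => h0⟩
    · exact ⟨1, fun h1 => q.isPrime.ne_top ((Ideal.eq_top_iff_one _).2 h1), fun h1 => absurd h1 hh⟩
  choose c hc hc0 using hkill'
  let a₀ := ∏ m ∈ S, v m
  let a₁ := ∏ h ∈ Q, c h
  have ha₀ : a₀ ∉ q.asIdeal := fun h => by
    obtain ⟨m, -, hm⟩ := (Ideal.IsPrime.prod_mem_iff (hp := q.isPrime)).1 h
    exact hv m hm
  have ha₁ : a₁ ∉ q.asIdeal := fun h => by
    obtain ⟨m, -, hm⟩ := (Ideal.IsPrime.prod_mem_iff (hp := q.isPrime)).1 h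
    exact hc m hm
  have hall : ∀ m : N, ∃ r : R, a₀ • m = r • n := fun m => by
    have hm : m ∈ Submodule.span R (S : Set N) := hS ▸ Submodule.mem_top
    induction hm using Submodule.span_induction with
    | mem x hx =>
      obtain ⟨d, hd⟩ := Finset.dvd_prod_of_mem v hx
      exact ⟨d * t x, by rw [show a₀ = d * v x by rw [mul_comm]; exact hd, mul_smul, ht x, mul_smul]⟩
    | zero => exact ⟨0, by rw [smul_zero, zero_smul]⟩
    | add x y _ _ hx hy =>
      obtain ⟨r, hr⟩ := hx
      obtain ⟨r', hr'⟩ := hy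
      exact ⟨r + r', by rw [smul_add, hr, hr', add_smul]⟩
    | smul k x _ hx =>
      obtain ⟨r, hr⟩ := hx
      exact ⟨k * r, by rw [smul_comm, hr, mul_smul]⟩
  have hq0 : ∀ h ∈ q.asIdeal, h • (a₁ • n) = 0 := fun h hh => by
    have hQm : ∀ y, y ∈ Submodule.span R (Q : Set R) → y ∈ q.asIdeal := fun y hy => by rw [← hQ]; exact hy
    have hh' : h ∈ Submodule.span R (Q : Set R) := by rw [← hQ] at hh; exact hh
    induction hh' using Submodule.span_induction with
    | mem x hx =>
      obtain ⟨d, hd⟩ := Finset.dvd_prod_of_mem c hx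
      rw [smul_comm, show a₁ = d * c x by rw [mul_comm]; exact hd, mul_smul,
        hc0 x (hQm x (Submodule.subset_span hx)), smul_zero]
    | zero => exact zero_smul _ _
    | add x y hx hy h1 h2 =>
      rw [add_smul, h1 (hQm x hx), h2 (hQm y hy), add_zero]
    | smul k x hx h1 =>
      rw [smul_assoc, h1 (hQm x hx), smul_zero]
  refine ⟨a₁ • n, a₀ * a₁, fun h => (q.isPrime.mem_or_mem h).elim ha₀ ha₁, fun m => ?_, fun r => ⟨fun hr => ?_, hq0 r⟩⟩
  · obtain ⟨r, hr⟩ := hall m
    exact ⟨r, by rw [mul_comm, mul_smul, hr, smul_comm]⟩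
  · by_contra hrq
    refine hn0 ((IsLocalizedModule.eq_zero_iff q.asIdeal.primeCompl ι).2
      ⟨⟨r * a₁, fun h => (q.isPrime.mem_or_mem h).elim hrq ha₁⟩, ?_⟩)
    show (r * a₁) • n = 0
    rw [mul_smul, hr]

end Tilde

end Groth.Agent.K0LocLib
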