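import Groth.Agent.K0LocLib.A1Poly

/-!
# Extension of scalars of a generically cyclic module
-/

set_option autoImplicit false
set_option backward.isDefEq.respectTransparency false
set_option linter.style.haveILetI false
set_option linter.unusedSectionVars false

universe u

open CategoryTheory
open scoped TensorProduct

noncomputable section

namespace Groth.Agent.K0LocLib

variable {R S : CommRingCat.{u}} (φ : R ⟶ S) (N : ModuleCat.{u} R)

/-- The element `1 ⊗ n`. -/
def unitElt (n : N) : (ModuleCat.extendScalars φ.hom).obj N :=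
  letI := φ.hom.toAlgebra
  ((1 : S) ⊗ₜ[R] n : S ⊗[R] N)

variable {N}

theorem gen_extend (n : N) (a : R) (ha : ∀ m : N, ∃ t : R, a • m = t • n)
    (x : (ModuleCat.extendScalars φ.hom).obj N) : ∃ r : S, φ.hom a • x = r • unitElt φ N n := by
  letI := φ.hom.toAlgebra
  have key : ∀ y : S ⊗[R] N, ∃ r : S, φ.hom a • y = r • ((1 : S) ⊗ₜ[R] n) := fun y => by
    induction y using TensorProduct.induction_on with
    | zero => exact ⟨0, by simp⟩
    | tmul s m =>
      obtain ⟨t, ht⟩ := ha m
      refine ⟨φ.hom t * s, ?_⟩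
      rw [TensorProduct.smul_tmul', TensorProduct.smul_tmul', smul_eq_mul, smul_eq_mul, mul_one,
        ← RingHom.algebraMap_toAlgebra φ.hom, ← Algebra.smul_def, ← Algebra.smul_def,
        TensorProduct.smul_tmul, ht, ← TensorProduct.smul_tmul]
    | add y z hy hz =>
      obtain ⟨r, hr⟩ := hy
      obtain ⟨r', hr'⟩ := hz
      exact ⟨r + r', by rw [smul_add, hr, hr', add_smul]⟩
  obtain ⟨r, hr⟩ := key x
  exact ⟨r, hr⟩

theorem coef_smul_of_smul_eq_zero (n : N) (r : S) (h : r • unitElt φ N n = 0) (d : S →+ R)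
    (hd : ∀ (c : R) (s : S), d (φ.hom c * s) = c * d s) : d r • n = 0 := by
  letI := φ.hom.toAlgebra
  let dl : S →ₗ[R] R := { d with map_smul' := hd }
  have h' : r • ((1 : S) ⊗ₜ[R] n) = (0 : S ⊗[R] N) := h
  rw [TensorProduct.smul_tmul', smul_eq_mul, mul_one] at h'
  have h'' := congrArg (TensorProduct.lid R N) (congrArg (dl.rTensor N) h')
  rw [LinearMap.rTensor_tmul, map_zero, map_zero, TensorProduct.lid_tmul] at h''
  exact h''

theorem smul_unitElt_of_mem (n : N) (q : Ideal R) (hq : ∀ h ∈ q, h • n = 0) (r : S) (hr : r ∈ q.map φ.hom) :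
    r • unitElt φ N n = 0 := by
  letI := φ.hom.toAlgebra
  show r • ((1 : S) ⊗ₜ[R] n) = (0 : S ⊗[R] N)
  have hr' : r ∈ Submodule.span S (φ.hom '' (q : Set R)) := hr
  induction hr' using Submodule.span_induction with
  | mem x hx =>
    obtain ⟨h, hh, rfl⟩ := hx
    rw [TensorProduct.smul_tmul', smul_eq_mul, ← RingHom.algebraMap_toAlgebra φ.hom, ← Algebra.smul_def,
      TensorProduct.smul_tmul, hq h hh, TensorProduct.tmul_zero]
  | zero => simp
  | add x y hx hy h1 h2 => rw [add_smul, h1 hx, h2 hy, add_zero]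
  | smul k x hx h1 => rw [smul_eq_mul, mul_smul, h1 hx, smul_zero]

open MvPolynomial in
theorem smul_unitElt_iff {σ : Type u} {A : CommRingCat.{u}} (M : ModuleCat.{u} A) (m : M) (q : Ideal A)
    (hq : ∀ h : A, h • m = 0 ↔ h ∈ q) (r : MvPolynomial σ A) :
    r • unitElt (CommRingCat.ofHom (C : A →+* MvPolynomial σ A)) M m = 0 ↔ r ∈ q.map (C : A →+* MvPolynomial σ A) := by
  refine ⟨fun h => mem_map_C_iff.2 fun k => (hq _).1 ?_,
    fun h => smul_unitElt_of_mem (CommRingCat.ofHom (C : A →+* MvPolynomial σ A)) m q (fun x hx => (hq x).2 hx) r h⟩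
  exact coef_smul_of_smul_eq_zero (CommRingCat.ofHom (C : A →+* MvPolynomial σ A)) m r h
    (MvPolynomial.coeffAddMonoidHom k) fun c s => coeff_C_mul k c s

end Groth.Agent.K0LocLib
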