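import Groth.Agent.K0LocLib.A1
import Groth.Agent.RpushLib.Closed
import Mathlib.Algebra.Homology.ShortComplex.SnakeLemma

/-!
# Pullback to the affine line is injective on `K₀`
-/

set_option autoImplicit false
set_option backward.isDefEq.respectTransparency false
set_option linter.style.haveILetI false
set_option linter.unusedSectionVars false

universe u v

open CategoryTheory CategoryTheory.Limits AlgebraicGeometry TopologicalSpace
open Groth.Agent.PullbackMod Groth.Agent.UnitsAffSpace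

noncomputable section

namespace Groth.Agent.K0LocLib

section Euler

theorem clSub_zero' {C : Type v} [Category.{u} C] [Abelian C] {P : ObjectProperty C} {M : C} (h : IsZero M) :
    KZero.clSub P M = 0 := by
  by_cases hM : P M
  · have hS : (ShortComplex.mk (0 : M ⟶ M) (0 : M ⟶ M) zero_comp).ShortExact :=
      { exact := ShortComplex.exact_of_isZero_X₂ _ h
        mono_f := ⟨fun _ _ _ => h.eq_of_tgt _ _⟩
        epi_g := ⟨fun _ _ _ => h.eq_of_src _ _⟩ }
    simpa using K0ResLib.clSub_add hS hM hM hM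
  · exact dif_neg hM

variable {C : Type v} [Category.{u} C] [Abelian C] (P : ObjectProperty C)

/-- A sequence exact in the middle splits into two short exact sequences. -/
theorem clSub_split {A B D : C} (f : A ⟶ B) (g : B ⟶ D) (w : f ≫ g = 0)
    (hex : (ShortComplex.mk f g w).Exact) (hA : P A) (hk : P (kernel f)) (hk' : P (kernel g)) :
    KZero.clSub P A = KZero.clSub P (kernel f) + KZero.clSub P (kernel g) := by
  have hepi : Epi (kernel.lift g f w) := (ShortComplex.exact_iff_epi_kernel_lift _).1 hex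
  have hS : (ShortComplex.mk (kernel.ι f) (kernel.lift g f w)
      ((cancel_mono (kernel.ι g)).1 (by simp))).ShortExact :=
    { exact := ShortComplex.exact_of_f_is_kernel _ (KernelFork.IsLimit.ofι _ _ (fun x hx => kernel.lift f x (by
          rw [← kernel.lift_ι g f w, reassoc_of% hx, zero_comp]))
          (fun x hx => kernel.lift_ι _ _ _) (fun x hx m hm => (cancel_mono (kernel.ι f)).1 (by simpa using hm)))
      mono_f := inferInstance
      epi_g := hepi }
  exact K0ResLib.clSub_add hS hk hA hk'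

/-- Euler characteristic of a six-term exact sequence. -/
theorem clSub_six (D : ShortComplex.SnakeInput C) [Mono D.L₁.f] [Epi D.L₂.g]
    (hsub : ∀ {A B : C} (f : A ⟶ B), P A → P B → P (kernel f))
    (h₁ : P D.L₀.X₁) (h₂ : P D.L₀.X₂) (h₃ : P D.L₀.X₃) (k₁ : P D.L₃.X₁) (k₂ : P D.L₃.X₂) (k₃ : P D.L₃.X₃) :
    KZero.clSub P D.L₃.X₂ - KZero.clSub P D.L₀.X₂ =
      (KZero.clSub P D.L₃.X₁ - KZero.clSub P D.L₀.X₁) + (KZero.clSub P D.L₃.X₃ - KZero.clSub P D.L₀.X₃) := by
  have e1 := clSub_split P D.L₀.f D.L₀.g D.L₀.zero D.L₀_exact h₁ (hsub _ h₁ h₂) (hsub _ h₂ h₃)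
  have e2 := clSub_split P D.L₀.g D.δ D.L₀_g_δ D.L₁'_exact h₂ (hsub _ h₂ h₃) (hsub _ h₃ k₁)
  have e3 := clSub_split P D.δ D.L₃.f D.δ_L₃_f D.L₂'_exact h₃ (hsub _ h₃ k₁) (hsub _ k₁ k₂)
  have e4 := clSub_split P D.L₃.f D.L₃.g D.L₃.zero D.L₃_exact k₁ (hsub _ k₁ k₂) (hsub _ k₂ k₃)
  have hS : (ShortComplex.mk (kernel.ι D.L₃.g) D.L₃.g (kernel.condition _)).ShortExact :=
    { exact := ShortComplex.exact_of_f_is_kernel _ (kernelIsKernel _)
      mono_f := inferInstance
      epi_g := inferInstance }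
  have e5 := K0ResLib.clSub_add (P := P) hS (hsub _ k₂ k₃) k₂ k₃
  have e0 : KZero.clSub P (kernel D.L₀.f) = 0 := clSub_zero' (isZero_kernel_of_mono _)
  rw [e0, zero_add] at e1
  rw [show KZero.clSub P D.L₃.X₂ = _ from e5, e2, e1, e3, e4]
  abel

end Euler

variable {n : Type u} [Unique n] {X : Scheme.{u}} [IsNoetherian X]
  [IsClosedImmersion (zeroSec n X)] [IsLocallyNoetherian 𝔸(n; X)]

/-- Multiplication by the coordinate. -/
abbrev tmul (G : 𝔸(n; X).Modules) : G ⟶ G :=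
  Formal.smulModΓ G (AffineSpace.coord X (default : n))

theorem p0_ker_coker {G : 𝔸(n; X).Modules} (hG : Coh.IsCoh G) :
    K0Fam.P0 (zeroSec n X) (kernel (tmul (n := n) G)) ∧ K0Fam.P0 (zeroSec n X) (cokernel (tmul (n := n) G)) := by
  obtain ⟨hk, hc⟩ := QCohLib.isCoh_kernel_cokernel (tmul (n := n) G) hG hG
  have key : ∀ z : 𝔸(n; X), z ∉ Set.range ⇑(zeroSec n X) → Function.Bijective (stalkLin (tmul (n := n) G) z) := fun z hz => by
    rw [range_zeroSec X, Set.mem_compl_iff, not_not] at hz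
    have hu : IsUnit (𝔸(n; X).presheaf.germ ⊤ z trivial (AffineSpace.coord X (default : n))) := (Scheme.mem_basicOpen_top _ _ _).1 hz
    have e : ⇑(stalkLin (tmul (n := n) G) z) = fun w => hu.unit • w :=
      funext fun w => BCLib.stalkLin_smulModΓ G _ z w
    rw [e]
    exact MulAction.bijective _
  refine ⟨⟨hk, fun z hz => by_contra fun hn => ?_⟩, ⟨hc, fun z hz => by_contra fun hn => ?_⟩⟩
  · exact not_subsingleton_iff_nontrivial.2 hz ((S13987.subsingleton_kernel_iff _ z).2 (key z hn).1)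
  · exact not_subsingleton_iff_nontrivial.2 hz ((S13987.subsingleton_cokernel_iff _ z).2 (key z hn).2)

/-- Coker minus kernel of the coordinate. -/
def chiT (G : 𝔸(n; X).Modules) : KZero.K0sub (K0Fam.P0 (zeroSec n X)) :=
  KZero.clSub (K0Fam.P0 (zeroSec n X)) (cokernel (tmul (n := n) G)) -
    KZero.clSub (K0Fam.P0 (zeroSec n X)) (kernel (tmul (n := n) G))

theorem p0_sub {A B : 𝔸(n; X).Modules} (f : A ⟶ B) (hA : K0Fam.P0 (zeroSec n X) A) (hB : K0Fam.P0 (zeroSec n X) B) :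
    K0Fam.P0 (zeroSec n X) (kernel f) :=
  (K0Fam.nice0 (zeroSec n X)).mono (kernel.ι f) (QCohLib.isCoh_kernel_cokernel f hA.1 hB.1).1 hA

theorem chiT_add {S : ShortComplex 𝔸(n; X).Modules} (hS : S.ShortExact) (h₁ : Coh.IsCoh S.X₁)
    (h₂ : Coh.IsCoh S.X₂) (h₃ : Coh.IsCoh S.X₃) :
    chiT (n := n) S.X₂ = chiT (n := n) S.X₁ + chiT (n := n) S.X₃ := by
  let τ : S ⟶ S := ShortComplex.homMk (tmul (n := n) S.X₁) (tmul (n := n) S.X₂) (tmul (n := n) S.X₃)
    (smulModΓ_naturality S.f _) (smulModΓ_naturality S.g _)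
  let D : ShortComplex.SnakeInput 𝔸(n; X).Modules :=
    { L₀ := kernel τ, L₁ := S, L₂ := S, L₃ := cokernel τ
      v₀₁ := kernel.ι τ, v₁₂ := τ, v₂₃ := cokernel.π τ
      w₀₂ := kernel.condition τ, w₁₃ := cokernel.condition τ
      h₀ := kernelIsKernel τ, h₃ := cokernelIsCokernel τ
      L₁_exact := hS.exact, epi_L₁_g := hS.epi_g, L₂_exact := hS.exact, mono_L₂_f := hS.mono_f }
  haveI : Mono D.L₁.f := hS.mono_f
  haveI : Epi D.L₂.g := hS.epi_g
  let P := K0Fam.P0 (zeroSec n X)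
  let a₁ : D.L₀.X₁ ≅ kernel (tmul (n := n) S.X₁) := PreservesKernel.iso ShortComplex.π₁ τ
  let a₂ : D.L₀.X₂ ≅ kernel (tmul (n := n) S.X₂) := PreservesKernel.iso ShortComplex.π₂ τ
  let a₃ : D.L₀.X₃ ≅ kernel (tmul (n := n) S.X₃) := PreservesKernel.iso ShortComplex.π₃ τ
  let b₁ : D.L₃.X₁ ≅ cokernel (tmul (n := n) S.X₁) := PreservesCokernel.iso ShortComplex.π₁ τ
  let b₂ : D.L₃.X₂ ≅ cokernel (tmul (n := n) S.X₂) := PreservesCokernel.iso ShortComplex.π₂ τ
  let b₃ : D.L₃.X₃ ≅ cokernel (tmul (n := n) S.X₃) := PreservesCokernel.iso ShortComplex.π₃ τ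
  have tr : ∀ {A B : 𝔸(n; X).Modules} (e : A ≅ B), P B → P A ∧ KZero.clSub P B = KZero.clSub P A := fun {A B} e hB => by
    have hA : P A := (K0Fam.nice0 (zeroSec n X)).mono e.hom (DCohLib.isCoh_iso e.symm hB.1) hB
    exact ⟨hA, (K0Fam.cl_iso (K0Fam.nice0 (zeroSec n X)) e hA).symm⟩
  obtain ⟨p₁, q₁⟩ := tr a₁ (p0_ker_coker h₁).1
  obtain ⟨p₂, q₂⟩ := tr a₂ (p0_ker_coker h₂).1
  obtain ⟨p₃, q₃⟩ := tr a₃ (p0_ker_coker h₃).1
  obtain ⟨r₁, t₁⟩ := tr b₁ (p0_ker_coker h₁).2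
  obtain ⟨r₂, t₂⟩ := tr b₂ (p0_ker_coker h₂).2
  obtain ⟨r₃, t₃⟩ := tr b₃ (p0_ker_coker h₃).2
  unfold chiT
  rw [q₁, q₂, q₃, t₁, t₂, t₃]
  exact clSub_six P D (fun f hA hB => p0_sub f hA hB) p₁ p₂ p₃ r₁ r₂ r₃

/-- The specialisation homomorphism. -/
def chiHom : K 𝔸(n; X) →+ KZero.K0sub (K0Fam.P0 (zeroSec n X)) :=
  QuotientAddGroup.lift _ (FreeAbelianGroup.lift fun G : {G : 𝔸(n; X).Modules // Coh.IsCoh G} => chiT (n := n) G.1) (by
    rw [KZero.relSub, AddSubgroup.closure_le]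
    rintro _ ⟨S, h₁, h₂, h₃, hS, rfl⟩
    simp only [SetLike.mem_coe, AddMonoidHom.mem_ker, map_sub, FreeAbelianGroup.lift_apply_of]
    rw [chiT_add hS h₁ h₂ h₃, sub_sub, sub_self])

theorem chiHom_cl {G : 𝔸(n; X).Modules} (hG : Coh.IsCoh G) : chiHom (cl G) = chiT (n := n) G := by
  rw [cl, K0ResLib.clSub_of hG]
  exact FreeAbelianGroup.lift_apply_of _ _

/-- A homomorphism inducing pullback to the affine line is injective. -/
theorem injective_of_pullback (φ : K X →+ K 𝔸(n; X))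
    (hφ : ∀ M : X.Modules, Coh.IsCoh M → φ (cl M) = cl ((Scheme.Modules.pullback (𝔸(n; X) ↘ X)).obj M)) :
    Function.Injective φ := by
  let s := zeroSec n X
  haveI : (Scheme.Modules.pushforward s).Additive := inferInstance
  haveI : PreservesFiniteLimits (Scheme.Modules.pushforward s) := inferInstance
  haveI : PreservesFiniteColimits (Scheme.Modules.pushforward s) := inferInstance
  let ι := (K0Fam.incl s).comp (SGA6.mapSub (Scheme.Modules.pushforward s) (fun M : X.Modules => Coh.IsCoh M) (K0Fam.P1 s)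
    fun _ h => K0Fam.p1_push s h)
  have hι : Function.Injective ι := (K0Fam.bijective_incl s).1.comp (K0Fam.bijective_push1 s).1
  have key : (chiHom (n := n)).comp φ = ι := by
    refine QuotientAddGroup.addMonoidHom_ext _ (FreeAbelianGroup.lift_ext _ _ fun M => ?_)
    show chiHom (φ (QuotientAddGroup.mk (FreeAbelianGroup.of M))) = ι (QuotientAddGroup.mk (FreeAbelianGroup.of M))
    rw [← K0ResLib.clSub_of M.2]
    change chiHom (φ (cl M.1)) = ι (cl M.1)
    haveI : Coh.IsQCoh M.1 := M.2.1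
    have hB : Coh.IsCoh ((Scheme.Modules.pullback (𝔸(n; X) ↘ X)).obj M.1) := PullbackMod.isCoh_pullback _ M.1 M.2
    rw [hφ M.1 M.2, chiHom_cl hB, chiT]
    haveI := mono_smul_coord (n := n) X M.1
    rw [clSub_zero' (isZero_kernel_of_mono _), sub_zero]
    obtain ⟨e⟩ := nonempty_coker_iso (n := n) X M.2
    rw [AddMonoidHom.comp_apply, KRRAmple.mapSub_cl _ _ _ (fun _ h => K0Fam.p1_push s h) M.2,
      K0Fam.incl_cl s (K0Fam.p1_push s M.2)]
    exact K0Fam.cl_iso (K0Fam.nice0 s) e (p0_ker_coker hB).2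
  exact Function.Injective.of_comp (f := chiHom (n := n)) (g := φ) (by
    rw [← AddMonoidHom.coe_comp, key]
    exact hι)

end Groth.Agent.K0LocLib
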