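import Mathlib

/-!
# Primes of a polynomial ring in one variable over a given prime
-/

set_option autoImplicit false
set_option linter.style.haveILetI false
set_option linter.unusedSectionVars false

universe u

open MvPolynomial

noncomputable section

namespace Groth.Agent.K0LocLib

section PseudoDivision

variable {A : Type u} [CommRing A] [IsDomain A]

/-- Elements of an ideal of one-variable polynomials are multiples of one of least degree, up to
powers of its leading coefficient. -/
theorem exists_pow_mul_mem (I : Ideal (Polynomial A)) (g : Polynomial A) (hg : g ∈ I) (hg0 : g ≠ 0)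
    (hmin : ∀ f ∈ I, f ≠ 0 → g.natDegree ≤ f.natDegree) :
    ∀ (d : ℕ) (f : Polynomial A), f.natDegree ≤ d → f ∈ I →
      ∃ k : ℕ, g ∣ Polynomial.C (g.leadingCoeff ^ k) * f := by
  intro d
  induction d using Nat.strong_induction_on with
  | _ d ih =>
    intro f hd hf
    by_cases hf0 : f = 0
    · exact ⟨0, by simp [hf0]⟩
    let s := f.natDegree - g.natDegree
    have hs : g.natDegree + s = f.natDegree := Nat.add_sub_cancel' (hmin f hf hf0)
    let f₁ := Polynomial.C g.leadingCoeff * f - Polynomial.C f.leadingCoeff * Polynomial.X ^ s * g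
    have hf₁ : f₁ ∈ I := sub_mem (I.mul_mem_left _ hf) (I.mul_mem_left _ hg)
    by_cases h0 : f₁ = 0
    · exact ⟨1, Polynomial.C f.leadingCoeff * Polynomial.X ^ s, by
        rw [pow_one, sub_eq_zero.1 h0]; ring⟩
    have hlt : f₁.natDegree < f.natDegree := by
      have hc : g.leadingCoeff ≠ 0 := Polynomial.leadingCoeff_ne_zero.2 hg0
      have hc' : f.leadingCoeff ≠ 0 := Polynomial.leadingCoeff_ne_zero.2 hf0
      have hdeg : (Polynomial.C g.leadingCoeff * f).degree =
          (Polynomial.C f.leadingCoeff * Polynomial.X ^ s * g).degree := by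
        rw [Polynomial.degree_C_mul hc, Polynomial.degree_mul, Polynomial.degree_C_mul hc', Polynomial.degree_X_pow,
          Polynomial.degree_eq_natDegree hf0, Polynomial.degree_eq_natDegree hg0, ← hs]
        push_cast
        rw [add_comm]
      have hlead : (Polynomial.C g.leadingCoeff * f).leadingCoeff =
          (Polynomial.C f.leadingCoeff * Polynomial.X ^ s * g).leadingCoeff := by
        rw [Polynomial.leadingCoeff_mul, Polynomial.leadingCoeff_mul, Polynomial.leadingCoeff_mul, Polynomial.leadingCoeff_C,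
          Polynomial.leadingCoeff_C, Polynomial.leadingCoeff_X_pow, mul_one, mul_comm]
      have h := Polynomial.degree_sub_lt_left hdeg (mul_ne_zero (by simpa using hc) hf0) hlead
      rw [Polynomial.degree_C_mul hc] at h
      exact Polynomial.natDegree_lt_natDegree h0 h
    obtain ⟨k, w, hw⟩ := ih f₁.natDegree (lt_of_lt_of_le hlt hd) f₁ le_rfl hf₁
    refine ⟨k + 1, w + Polynomial.C (g.leadingCoeff ^ k) * (Polynomial.C f.leadingCoeff * Polynomial.X ^ s), ?_⟩
    rw [mul_add, ← hw, pow_succ, map_mul]
    simp only [f₁]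
    ring

end PseudoDivision

variable {n : Type u} [Unique n] {A : Type u} [CommRing A]

/-- Reduction of the coefficients, with the variable renamed. -/
def redHom (q : Ideal A) : MvPolynomial n A →+* Polynomial (A ⧸ q) :=
  MvPolynomial.eval₂Hom (Polynomial.C.comp (Ideal.Quotient.mk q)) fun _ => Polynomial.X

theorem coeff_redHom (q : Ideal A) (f : MvPolynomial n A) (k : ℕ) :
    (redHom q f).coeff k = Ideal.Quotient.mk q (f.coeff (Finsupp.single default k)) := by
  induction f using MvPolynomial.induction_on' with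
  | monomial m a =>
    classical
    have hm : m = Finsupp.single default (m default) := Finsupp.unique_single m
    rw [redHom, eval₂Hom_monomial, RingHom.comp_apply, coeff_monomial, Finsupp.prod_fintype _ _ (fun i => pow_zero _),
      Fintype.prod_unique, Polynomial.coeff_C_mul_X_pow]
    by_cases h : k = m default
    · rw [if_pos h, if_pos (by rw [h]; exact hm)]
    · rw [if_neg h, if_neg (fun e => h (by rw [e]; simp)), map_zero]
  | add f g hf hg => rw [map_add, Polynomial.coeff_add, hf, hg, coeff_add, map_add]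

theorem redHom_eq_zero_iff (q : Ideal A) (f : MvPolynomial n A) :
    redHom q f = 0 ↔ f ∈ Ideal.map (C : A →+* MvPolynomial n A) q := by
  rw [mem_map_C_iff, Polynomial.ext_iff]
  refine ⟨fun h m => ?_, fun h k => ?_⟩
  · have := h (m default)
    rw [coeff_redHom, Polynomial.coeff_zero, Ideal.Quotient.eq_zero_iff_mem] at this
    rwa [Finsupp.unique_single m]
  · rw [coeff_redHom, Polynomial.coeff_zero, Ideal.Quotient.eq_zero_iff_mem]
    exact h _

theorem surjective_redHom (q : Ideal A) : Function.Surjective (redHom (n := n) q) := fun f => by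
  induction f using Polynomial.induction_on' with
  | add f g hf hg =>
    obtain ⟨a, rfl⟩ := hf
    obtain ⟨b, rfl⟩ := hg
    exact ⟨a + b, map_add _ _ _⟩
  | monomial k c =>
    obtain ⟨a, rfl⟩ := Ideal.Quotient.mk_surjective c
    exact ⟨MvPolynomial.C a * MvPolynomial.X default ^ k, by
      simp [redHom, Polynomial.C_mul_X_pow_eq_monomial]⟩

/-- A prime of `A[T]` over `q` is, up to inverting an element outside `q`, generated by `q` and one
polynomial which is regular modulo `q` or zero. -/
theorem exists_prime_gen [IsNoetherianRing A] (q : Ideal A) [q.IsPrime] (P : Ideal (MvPolynomial n A))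
    (_hP : P.comap (C : A →+* MvPolynomial n A) = q) :
    ∃ g ∈ P, ∃ a ∉ q, (∀ h ∈ P, C a * h ∈ Ideal.map C q ⊔ Ideal.span {g}) ∧
      (g = 0 ∨ ∀ r, g * r ∈ Ideal.map C q → r ∈ Ideal.map C q) := by
  classical
  by_cases hall : ∀ h ∈ P, redHom q h = 0
  · exact ⟨0, zero_mem _, 1, fun h => ‹q.IsPrime›.ne_top ((Ideal.eq_top_iff_one _).2 h), fun h hh => by
      rw [map_one, one_mul]; exact Ideal.mem_sup_left ((redHom_eq_zero_iff q h).1 (hall h hh)), Or.inl rfl⟩
  push Not at hall
  obtain ⟨h₀, hh₀, hh₀'⟩ := hall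
  have hex : ∃ d, ∃ h ∈ P, redHom q h ≠ 0 ∧ (redHom q h).natDegree = d := ⟨_, h₀, hh₀, hh₀', rfl⟩
  obtain ⟨g, hg, hg0, hgd⟩ := Nat.find_spec hex
  obtain ⟨c, hc⟩ := Ideal.Quotient.mk_surjective (redHom q g).leadingCoeff
  have hcq : c ∉ q := fun h => Polynomial.leadingCoeff_ne_zero.2 hg0
    (hc ▸ Ideal.Quotient.eq_zero_iff_mem.2 h)
  have key : ∀ h ∈ P, ∃ k : ℕ, C (c ^ k) * h ∈ Ideal.map C q ⊔ Ideal.span {g} := fun h hh => by
    obtain ⟨k, w, hw⟩ := exists_pow_mul_mem (P.map (redHom q)) (redHom q g) (Ideal.mem_map_of_mem _ hg) hg0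
      (fun f hf hf0 => by
        obtain ⟨f', hf', rfl⟩ := (Ideal.mem_map_iff_of_surjective _ (surjective_redHom q)).1 hf
        rw [hgd]
        exact Nat.find_min' hex ⟨f', hf', hf0, rfl⟩)
      _ (redHom q h) le_rfl (Ideal.mem_map_of_mem _ hh)
    obtain ⟨w', rfl⟩ := surjective_redHom (n := n) q w
    refine ⟨k, ?_⟩
    have h1 : C (c ^ k) * h - g * w' ∈ Ideal.map C q := (redHom_eq_zero_iff q _).1 (by
      rw [map_sub, map_mul, map_mul, sub_eq_zero, show redHom q (C (c ^ k) : MvPolynomial n A) = Polynomial.C ((redHom q g).leadingCoeff ^ k) by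
        simp [redHom, hc], hw])
    have h2 := Ideal.add_mem _ (Ideal.mem_sup_left (T := Ideal.span {g}) h1)
      (Ideal.mem_sup_right (S := Ideal.map C q) (Ideal.mul_mem_right w' _ (Ideal.mem_span_singleton_self g)))
    rwa [sub_add_cancel] at h2
  choose k hk using key
  obtain ⟨S, hS⟩ := P.fg_of_isNoetherianRing
  have hSP : ∀ s ∈ S, s ∈ P := fun s hs => hS ▸ Submodule.subset_span hs
  let K := ∑ s ∈ S.attach, k s.1 (hSP _ s.2)
  refine ⟨g, hg, c ^ K, fun h => hcq (‹q.IsPrime›.mem_of_pow_mem _ h), fun h hh => ?_, Or.inr fun r hr => ?_⟩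
  · have hh' : h ∈ Submodule.span (MvPolynomial n A) (S : Set (MvPolynomial n A)) := by rw [← hS] at hh; exact hh
    induction hh' using Submodule.span_induction with
    | mem x hx =>
      have hle : k x (hSP x hx) ≤ K := Finset.single_le_sum
        (f := fun s : {x // x ∈ S} => k s.1 (hSP _ s.2)) (fun _ _ => Nat.zero_le _) (Finset.mem_attach S ⟨x, hx⟩)
      obtain ⟨e, he⟩ := Nat.exists_eq_add_of_le hle
      rw [he, pow_add, mul_comm (c ^ _), map_mul, mul_assoc]
      exact Ideal.mul_mem_left _ _ (hk x (hSP x hx))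
    | zero => rw [mul_zero]; exact zero_mem _
    | add x y hx hy h1 h2 =>
      rw [mul_add]
      exact add_mem (h1 (hS ▸ hx)) (h2 (hS ▸ hy))
    | smul t x hx h1 =>
      rw [smul_eq_mul, mul_left_comm]
      exact Ideal.mul_mem_left _ _ (h1 (hS ▸ hx))
  · rw [← redHom_eq_zero_iff] at hr ⊢
    rw [map_mul, mul_eq_zero] at hr
    exact hr.resolve_left hg0

end Groth.Agent.K0LocLib
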