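import Groth.Agent.K0LocLib.A1Chart
import Groth.Agent.K0LocLib.A1Gen
import Groth.Agent.K0Fam.Canon
import Groth.Agent.DevLib.Apps
import Groth.Agent.SuppLib.Basic
import Groth.Agent.TildeFinLib.Basic

/-!
# Pullback to the affine line is surjective on `K₀`
-/

set_option autoImplicit false
set_option backward.isDefEq.respectTransparency false
set_option linter.style.haveILetI false
set_option linter.unusedSectionVars false

universe u

open CategoryTheory CategoryTheory.Limits AlgebraicGeometry TopologicalSpace MvPolynomial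
open Groth.Agent.PullbackMod Groth.Agent.UnitsAffSpace

noncomputable section

namespace Groth.Agent.K0LocLib

variable {n : Type u} [Unique n] {X : Scheme.{u}}

/-- An extended module on a chart. -/
def chartTilde {A : CommRingCat.{u}} (j : Spec A ⟶ X) [IsOpenImmersion j] (M : X.Modules) [Coh.IsQCoh M] :
    (Scheme.Modules.restrictFunctor (chart (n := n) j)).obj ((Scheme.Modules.pullback (𝔸(n; X) ↘ X)).obj M) ≅
      tilde (R := CommRingCat.of (MvPolynomial n A))
        ((ModuleCat.extendScalars (CommRingCat.ofHom (C : A →+* MvPolynomial n A)).hom).obj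
          (moduleSpecΓFunctor.obj ((Scheme.Modules.pullback j).obj M))) :=
  haveI : Coh.IsQCoh ((Scheme.Modules.pullback j).obj M) := PullbackMod.isQCoh_pullback _ _
  haveI := Scheme.Modules.isIso_fromTildeΓ_of_isQuasicoherent ((Scheme.Modules.pullback j).obj M)
  (Scheme.Modules.restrictFunctorIsoPullback _).app _ ≪≫
  (Scheme.Modules.pullbackComp _ _).app M ≪≫ (Scheme.Modules.pullbackCongr (chart_over j)).app M ≪≫
    ((Scheme.Modules.pullbackComp _ _).app M).symm ≪≫
    (Scheme.Modules.pullback (Spec.map (CommRingCat.ofHom (C : A →+* MvPolynomial n A)))).mapIso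
      (asIso ((Scheme.Modules.pullback j).obj M).fromTildeΓ).symm ≪≫
    (TildePullback.tildePullbackIso (CommRingCat.ofHom (C : A →+* MvPolynomial n A))).app
      (moduleSpecΓFunctor.obj ((Scheme.Modules.pullback j).obj M))

variable [IsNoetherian X] [IsNoetherian 𝔸(n; X)] (Im : AddSubgroup (K 𝔸(n; X)))

omit [Unique n] in
theorem support_subset_of_epi {Y : Scheme.{u}} {M N : Y.Modules} (f : M ⟶ N) [Epi f] :
    CohB1.support N ⊆ CohB1.support M := fun x hx hs =>
  hx (Function.Surjective.subsingleton ((PullbackMod.epi_iff_stalk f).1 inferInstance x))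

/-- Coherent modules whose class lies in the subgroup. -/
def Good (G : 𝔸(n; X).Modules) : Prop := cl G ∈ Im

theorem good_two_three {S : ShortComplex 𝔸(n; X).Modules} (hS : S.ShortExact) (h₁ : Coh.IsCoh S.X₁)
    (h₂ : Coh.IsCoh S.X₂) (h₃ : Coh.IsCoh S.X₃) :
    (Good Im S.X₁ → Good Im S.X₂ → Good Im S.X₃) ∧ (Good Im S.X₁ → Good Im S.X₃ → Good Im S.X₂) ∧
      (Good Im S.X₂ → Good Im S.X₃ → Good Im S.X₁) := by
  have e := cl_add hS h₁ h₂ h₃
  unfold Good
  refine ⟨fun a b => ?_, fun a b => ?_, fun a b => ?_⟩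
  · rw [eq_sub_of_add_eq' e.symm]; exact sub_mem b a
  · rw [e]; exact add_mem a b
  · rw [eq_sub_of_add_eq e.symm]; exact sub_mem a b

theorem good_iso {M N : 𝔸(n; X).Modules} (h : Nonempty (M ≅ N)) (hM : Good Im M) : Good Im N := by
  obtain ⟨e⟩ := h
  by_cases hc : Coh.IsCoh N
  · unfold Good
    rw [cl_iso e (DCohLib.isCoh_iso e.symm hc)]
    exact hM
  · unfold Good
    rw [cl, KZero.clSub, dif_neg hc]
    exact zero_mem _

theorem good_isZero {M : 𝔸(n; X).Modules} (h : IsZero M) : Good Im M := by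
  unfold Good
  rw [cl_isZero h]
  exact zero_mem _

variable {Im} (hIm : ∀ M : X.Modules, Coh.IsCoh M → cl ((Scheme.Modules.pullback (𝔸(n; X) ↘ X)).obj M) ∈ Im)

theorem good_of_devissage {C₁ : Set X} {z : 𝔸(n; X)}
    (hC : ∀ G : 𝔸(n; X).Modules, Coh.IsCoh G → CohB1.support G ⊆ (𝔸(n; X) ↘ X) ⁻¹' C₁ → Good Im G)
    (hC₁ : IsClosed C₁) (hsm : DevLib.SmallerOK (Good Im) z) {G : 𝔸(n; X).Modules} (hG : Coh.IsCoh G)
    (hsupp : ∀ y ∈ CohB1.support G, z ⤳ y ∨ (𝔸(n; X) ↘ X) y ∈ C₁) (hz : z ∉ CohB1.support G) : Good Im G := by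
  refine DevLib.devissage {y | (z ⤳ y ∨ (𝔸(n; X) ↘ X) y ∈ C₁) ∧ ¬ y ⤳ z} (Good Im)
    (fun M N => good_iso Im) (fun M => good_isZero Im)
    (fun S hS h₁ h₂ h₃ _ => (good_two_three Im hS h₁ h₂ h₃).2.1) ?_ G hG
    (fun y hy => ⟨hsupp y hy, fun h => hz (h.mem_closed (DevLib.isClosed_support hG) hy)⟩)
  intro y ⟨hy, hyz⟩ _ Q hQ _
  rcases hy with hy | hy
  · exact hsm Q hQ.coh (fun w hw => hy.trans (hQ.supp w hw)) fun h => hyz (hQ.supp z h)
  · exact hC Q hQ.coh fun w hw => ((hQ.supp w hw).map (𝔸(n; X) ↘ X).continuous).mem_closed hC₁ hy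

include hIm

/-- A good module with simple stalk at a point, supported near its closure. -/
theorem exists_model (Cl : Closeds X) (z : 𝔸(n; X)) (hz : closure {(𝔸(n; X) ↘ X) z} = (Cl : Set X))
    (IH : ∀ C' : Closeds X, C' < Cl → ∀ G : 𝔸(n; X).Modules, Coh.IsCoh G →
      CohB1.support G ⊆ (𝔸(n; X) ↘ X) ⁻¹' (C' : Set X) → Good Im G) :
    ∃ (C' : Closeds X) (Q : 𝔸(n; X).Modules), C' < Cl ∧ (𝔸(n; X) ↘ X) z ∉ C' ∧ Coh.IsCoh Q ∧ Good Im Q ∧
      (∀ y ∈ CohB1.support Q, z ⤳ y ∨ (𝔸(n; X) ↘ X) y ∈ C') ∧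
      IsSimpleModule (𝔸(n; X).presheaf.stalk z) (Q.presheaf.stalk z) := by
  let p := 𝔸(n; X) ↘ X
  let M := Cyc.closureStructureSheaf (p z)
  have hM := K0Fam.isPiece_closureStructureSheaf (p z)
  haveI : Coh.IsQCoh M := hM.coh.1
  obtain ⟨A, j, hjo, q, hq⟩ : ∃ (A : CommRingCat.{u}) (j : Spec A ⟶ X) (_ : IsOpenImmersion j) (q : Spec A),
      j q = p z := by
    obtain ⟨i, q, hq⟩ := X.affineOpenCover.openCover.exists_eq (p z)
    exact ⟨_, X.affineOpenCover.f i, inferInstance, q, hq⟩
  haveI := hjo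
  haveI : IsNoetherianRing A := by
    haveI : IsLocallyNoetherian (Spec A) := isLocallyNoetherian_of_isOpenImmersion j
    exact (isLocallyNoetherian_Spec).1 inferInstance
  obtain ⟨P, hP⟩ := exists_preimage (n := n) j z q hq
  let G := chart (n := n) j
  have hover : ∀ P' : Spec (CommRingCat.of (MvPolynomial n A)), p (G P') =
      j (Spec.map (CommRingCat.ofHom (C : A →+* MvPolynomial n A)) P') := fun P' =>
    congr($(chart_over (n := n) j) P')
  have hPq : Spec.map (CommRingCat.ofHom (C : A →+* MvPolynomial n A)) P = q :=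
    j.isOpenEmbedding.injective ((hover P).symm.trans (by rw [hP, hq]))
  have hPq' : Ideal.comap (C : A →+* MvPolynomial n A) P.asIdeal = q.asIdeal := congrArg PrimeSpectrum.asIdeal hPq
  haveI := q.isPrime
  obtain ⟨g, hgP, a, haq, hgen, hreg⟩ := exists_prime_gen q.asIdeal P.asIdeal hPq'
  -- the module on the chart
  haveI : Coh.IsQCoh ((Scheme.Modules.pullback j).obj M) := PullbackMod.isQCoh_pullback _ _
  haveI := Scheme.Modules.isIso_fromTildeΓ_of_isQuasicoherent ((Scheme.Modules.pullback j).obj M)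
  let N := moduleSpecΓFunctor.obj ((Scheme.Modules.pullback j).obj M)
  let eM : (Scheme.Modules.restrictFunctor j).obj M ≅ tilde N :=
    (Scheme.Modules.restrictFunctorIsoPullback j).app M ≪≫ (asIso ((Scheme.Modules.pullback j).obj M).fromTildeΓ).symm
  haveI : IsLocallyNoetherian (Spec A) := isLocallyNoetherian_of_isOpenImmersion j
  haveI : Module.Finite A N := (TildeFinLib.isFT_tilde_iff _).1
    (DCohLib.isCoh_iso (asIso ((Scheme.Modules.pullback j).obj M).fromTildeΓ).symm
      (PullbackMod.isCoh_pullback j M hM.coh)).2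
  have hsN : IsSimpleModule ((Spec A).presheaf.stalk q) ((tilde N).presheaf.stalk q) := by
    rw [← simple_iff_of_iso eM, simple_restrict_iff, hq]
    exact hM.simple
  obtain ⟨m₀, a', ha', hcyc, hann⟩ := exists_cyclic N q hsN
  let φC := CommRingCat.ofHom (C : A →+* MvPolynomial n A)
  let L := (ModuleCat.extendScalars φC.hom).obj N
  let e : L := unitElt φC N m₀
  let J : Ideal (MvPolynomial n A) := q.asIdeal.map C
  have hJ : ∀ r : MvPolynomial n A, r • e = 0 ↔ r ∈ J := smul_unitElt_iff N m₀ q.asIdeal hann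
  let b : MvPolynomial n A := C (a * a')
  have hbq : a * a' ∉ q.asIdeal := fun h => (q.isPrime.mem_or_mem h).elim haq ha'
  have hbgen : ∀ h ∈ P.asIdeal, ∃ u : MvPolynomial n A, b * h - g * u ∈ J := fun h hh => by
    obtain ⟨x, hx, y, hy, hxy⟩ := Submodule.mem_sup.1 (hgen h hh)
    obtain ⟨u, rfl⟩ := Ideal.mem_span_singleton'.1 hy
    refine ⟨C a' * u, ?_⟩
    have : b * h - g * (C a' * u) = C a' * x := by
      simp only [b, map_mul]
      rw [show C a * C a' * h = C a' * (C a * h) by ring, ← hxy]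
      ring
    rw [this]
    exact J.mul_mem_left _ hx
  have hLgen : ∀ x : L, ∃ r : MvPolynomial n A, b • x = r • e := fun x => by
    obtain ⟨r, hr⟩ := gen_extend φC m₀ a' hcyc x
    refine ⟨C a * r, ?_⟩
    have hr' : (C a' : MvPolynomial n A) • x = r • e := hr
    simp only [b, map_mul, mul_smul, hr']
  let f : L ⟶ L := g • 𝟙 L
  have hf : ∀ x : L, f.hom x = g • x := fun x => rfl
  -- the closed subset
  let W : X.Opens := j ''ᵁ (PrimeSpectrum.basicOpen (a * a'))
  let C' : Closeds X := ⟨(Cl : Set X) ∩ (W : Set X)ᶜ, Cl.isClosed.inter W.isOpen.isClosed_compl⟩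
  have hxW : p z ∈ W := ⟨q, hbq, hq⟩
  have hC' : C' < Cl := lt_of_le_of_ne (fun y hy => hy.1) fun h => by
    have : p z ∈ (C' : Set X) := by rw [h, ← hz]; exact subset_closure rfl
    exact this.2 hxW
  have hchart : ∀ y : 𝔸(n; X), p y ∈ W → ∃ P' : Spec (CommRingCat.of (MvPolynomial n A)),
      G P' = y ∧ b ∉ P'.asIdeal := fun y ⟨q', hq', hjq'⟩ => by
    obtain ⟨P', hP'⟩ := exists_preimage (n := n) j y q' hjq'
    refine ⟨P', hP', fun hb => hq' ?_⟩
    have hc : Spec.map (CommRingCat.ofHom (C : A →+* MvPolynomial n A)) P' = q' :=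
      j.isOpenEmbedding.injective ((hover P').symm.trans ((congrArg p hP').trans hjq'.symm))
    rw [← hc]
    exact hb
  let B := (Scheme.Modules.pullback p).obj M
  have hB : Coh.IsCoh B := PullbackMod.isCoh_pullback p M hM.coh
  have hBsupp : CohB1.support B ⊆ p ⁻¹' (Cl : Set X) := by
    rw [SuppLib.support_pullback p M hM.coh.2]
    intro y hy
    rw [Set.mem_preimage, ← hz]
    exact specializes_iff_mem_closure.1 (hM.supp _ hy)
  let eB : (Scheme.Modules.restrictFunctor G).obj B ≅ tilde (R := CommRingCat.of (MvPolynomial n A)) L :=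
    chartTilde j M
  -- the endomorphism, extended
  obtain ⟨F', φ', hF', hgood, hQiso⟩ : ∃ (F' : 𝔸(n; X).Modules) (φ' : F' ⟶ B), Coh.IsCoh F' ∧
      Good Im (cokernel φ') ∧ Nonempty ((Scheme.Modules.restrictFunctor G).obj (cokernel φ') ≅
        cokernel (tilde.map (R := CommRingCat.of (MvPolynomial n A)) f)) := by
    haveI : PreservesColimitsOfSize.{0, 0} (Scheme.Modules.restrictFunctor G) :=
      (Scheme.Modules.restrictAdjunction G).leftAdjoint_preservesColimits
    rcases hreg with hg0 | hreg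
    · have hf0 : tilde.map (R := CommRingCat.of (MvPolynomial n A)) f = 0 := by
        have hz0 : f = 0 := ModuleCat.hom_ext (LinearMap.ext fun x => by rw [hf, hg0, zero_smul]; rfl)
        rw [hz0]
        exact (tilde.functor (CommRingCat.of (MvPolynomial n A))).map_zero L L
      refine ⟨B, 0, hB, good_iso Im ⟨(cokernelZeroIsoTarget (X := B) (Y := B)).symm⟩ (hIm M hM.coh),
        ⟨(Scheme.Modules.restrictFunctor G).mapIso cokernelZeroIsoTarget ≪≫ eB ≪≫ cokernelZeroIsoTarget.symm ≪≫
          cokernelIsoOfEq hf0.symm⟩⟩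
    obtain ⟨F', ι, φ', hιm, hF', hι, hφ'⟩ := exists_lift' G hB hB
      (eB.hom ≫ tilde.map (R := CommRingCat.of (MvPolynomial n A)) f ≫ eB.inv)
    haveI := hι
    haveI := hιm
    let eF := asIso ((Scheme.Modules.restrictFunctor G).map ι) ≪≫ eB
    have hsq : (Scheme.Modules.restrictFunctor G).map φ' ≫ eB.hom =
        eF.hom ≫ tilde.map (R := CommRingCat.of (MvPolynomial n A)) f := by
      simp [eF, hφ']
    refine ⟨F', φ', hF', ?_, ⟨PreservesCokernel.iso _ φ' ≪≫ cokernel.mapIso _ _ eF eB hsq⟩⟩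
    -- kernels live off the chart
    haveI : PreservesFiniteLimits (tilde.functor (CommRingCat.of (MvPolynomial n A))) :=
      TildeD.preservesFiniteLimits_tilde
    haveI : PreservesLimitsOfSize.{0, 0} (Scheme.Modules.pushforward G) :=
      (Scheme.Modules.restrictAdjunction G).rightAdjoint_preservesLimits
    obtain ⟨hk, hc⟩ := QCohLib.isCoh_kernel_cokernel φ' hF' hB
    have hkι : ∀ y, p y ∈ W → Subsingleton ((cokernel ι).presheaf.stalk y) := fun y hy => by
      obtain ⟨P', rfl, -⟩ := hchart y hy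
      exact (subsingleton_kernel_cokernel G ι P').2
    have hkφ : ∀ y, p y ∈ W → Subsingleton ((kernel φ').presheaf.stalk y) := fun y hy => by
      obtain ⟨P', rfl, hb⟩ := hchart y hy
      refine (S13987.subsingleton_kernel_iff φ' _).2 ?_
      have hinj : Function.Injective (stalkLin ((Scheme.Modules.restrictFunctor G).map φ') P') := by
        rw [← S13987.subsingleton_kernel_iff]
        let eK : kernel ((Scheme.Modules.restrictFunctor G).map φ') ≅
            tilde (R := CommRingCat.of (MvPolynomial n A)) (ModuleCat.of (MvPolynomial n A) (LinearMap.ker f.hom)) :=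
          kernel.mapIso _ _ eF eB hsq ≪≫
            (PreservesKernel.iso (tilde.functor (CommRingCat.of (MvPolynomial n A))) f).symm ≪≫
              (tilde.functor (CommRingCat.of (MvPolynomial n A))).mapIso (ModuleCat.kernelIsoKer f)
        haveI : Subsingleton ((tilde (R := CommRingCat.of (MvPolynomial n A))
            (ModuleCat.of (MvPolynomial n A) (LinearMap.ker f.hom))).presheaf.stalk P') :=
          subsingleton_tilde_stalk _ _ fun x => ⟨b, hb, Subtype.ext (by
            obtain ⟨r, hr⟩ := hLgen x.1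
            have h1 : (g * r) • e = 0 := by
              rw [mul_smul, ← hr, smul_comm]
              exact (congrArg (b • ·) ((hf x.1).symm.trans x.2)).trans (smul_zero b)
            show b • x.1 = 0
            rw [hr]
            exact (hJ r).2 (hreg r ((hJ _).1 h1)))⟩
        exact @Equiv.subsingleton _ _ (((DCohLib.stkF P').mapIso eK).toLinearEquiv).toEquiv this
      intro u v huv
      obtain ⟨u, rfl⟩ := ((Scheme.Modules.restrictStalkNatIso G P').app F').addCommGroupIsoToAddEquiv.surjective u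
      obtain ⟨v, rfl⟩ := ((Scheme.Modules.restrictStalkNatIso G P').app F').addCommGroupIsoToAddEquiv.surjective v
      refine congrArg _ (hinj ?_)
      apply ((Scheme.Modules.restrictStalkNatIso G P').app B).addCommGroupIsoToAddEquiv.injective
      exact (congr($((Scheme.Modules.restrictStalkNatIso G P').hom.naturality φ') u)).trans
        (huv.trans (congr($((Scheme.Modules.restrictStalkNatIso G P').hom.naturality φ') v)).symm)
    have hsuppF : CohB1.support F' ⊆ p ⁻¹' (Cl : Set X) := (DevLib.support_subset_of_mono ι).trans hBsupp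
    obtain ⟨-, hcι⟩ := QCohLib.isCoh_kernel_cokernel ι hF' hB
    have g1 : Good Im (kernel φ') := IH C' hC' _ hk fun y hy =>
      ⟨hsuppF (DevLib.support_subset_of_mono (kernel.ι φ') hy), fun hW => hy (hkφ y hW)⟩
    have g2 : Good Im (cokernel ι) := IH C' hC' _ hcι fun y hy =>
      ⟨hBsupp (DevLib.support_coker_subset ι hy), fun hW => hy (hkι y hW)⟩
    have e1 := cl_sub φ' hF' hB
    have e2 := cl_sub ι hF' hB
    rw [cl_isZero (isZero_kernel_of_mono ι), zero_sub] at e2
    unfold Good at g1 g2 ⊢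
    rw [show cl (cokernel φ') = cl (kernel φ') + cl (cokernel ι) from by
      rw [e2] at e1
      rw [← sub_eq_zero]
      have := sub_eq_zero.2 e1
      rw [← neg_eq_zero]
      rw [show -(cl (cokernel φ') - (cl (kernel φ') + cl (cokernel ι))) =
        cl (cokernel ι) + (cl (kernel φ') - cl (cokernel φ')) by abel, ← e1]
      abel]
    exact add_mem g1 g2
  obtain ⟨eQ⟩ := hQiso
  haveI : PreservesColimitsOfSize.{u, u} (tilde.functor (CommRingCat.of (MvPolynomial n A))) :=
    tilde.adjunction.leftAdjoint_preservesColimits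
  haveI : PreservesColimitsOfSize.{0, 0} (tilde.functor (CommRingCat.of (MvPolynomial n A))) :=
    preservesColimitsOfSize_shrink _
  let L' := ModuleCat.of (MvPolynomial n A) (L ⧸ LinearMap.range f.hom)
  let eQ' : (Scheme.Modules.restrictFunctor G).obj (cokernel φ') ≅ tilde (R := CommRingCat.of (MvPolynomial n A)) L' :=
    eQ ≪≫ (PreservesCokernel.iso (tilde.functor (CommRingCat.of (MvPolynomial n A))) f).symm ≪≫
      (tilde.functor (CommRingCat.of (MvPolynomial n A))).mapIso (ModuleCat.cokernelIsoRangeQuotient f)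
  obtain ⟨-, hQc⟩ := QCohLib.isCoh_kernel_cokernel φ' hF' hB
  refine ⟨C', cokernel φ', hC', fun h => h.2 hxW, hQc, hgood, fun y hy => ?_, ?_⟩
  · by_cases hW : p y ∈ W
    swap
    · exact Or.inr ⟨hBsupp (support_subset_of_epi (cokernel.π φ') hy), hW⟩
    obtain ⟨P', rfl, hb⟩ := hchart y hW
    left
    rw [← hP]
    refine ((PrimeSpectrum.le_iff_specializes P P').1 fun h hh => by_contra fun hh' => hy ?_).map G.continuous
    haveI : Subsingleton ((tilde (R := CommRingCat.of (MvPolynomial n A)) L').presheaf.stalk P') :=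
      subsingleton_tilde_stalk _ _ fun x => by
        obtain ⟨x, rfl⟩ := Submodule.Quotient.mk_surjective _ x
        obtain ⟨r, hr⟩ := hLgen x
        obtain ⟨u, hu⟩ := hbgen h hh
        refine ⟨b * h * b, fun h' => ((P'.isPrime.mem_or_mem h').elim (fun h'' => (P'.isPrime.mem_or_mem h'').elim hb hh') hb), ?_⟩
        rw [← Submodule.Quotient.mk_smul, Submodule.Quotient.mk_eq_zero]
        refine ⟨(u * r) • e, ?_⟩
        rw [hf, mul_smul (b * h) b, hr, smul_smul, smul_smul, ← sub_eq_zero, ← sub_smul, hJ]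
        have : g * (u * r) - b * h * r = -(r * (b * h - g * u)) := by ring
        rw [this]
        exact J.neg_mem (J.mul_mem_left r hu)
    rw [← subsingleton_restrict_iff G]
    exact @Equiv.subsingleton _ _ (((DCohLib.stkF P').mapIso eQ').toLinearEquiv).toEquiv this
  · rw [← hP]
    refine (simple_restrict_iff G (cokernel φ') P).1 ((simple_iff_of_iso eQ' P).2 ?_)
    refine simple_tilde_stalk (R := CommRingCat.of (MvPolynomial n A)) L' P (Submodule.Quotient.mk e) (fun x => ?_) (fun h hh => ?_) (fun s hs h0 => ?_)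
    · obtain ⟨x, rfl⟩ := Submodule.Quotient.mk_surjective _ x
      obtain ⟨r, hr⟩ := hLgen x
      exact ⟨b, fun hb => hbq (hPq' ▸ hb), r, by rw [← Submodule.Quotient.mk_smul, hr, Submodule.Quotient.mk_smul]⟩
    · obtain ⟨u, hu⟩ := hbgen h hh
      refine ⟨b, fun hb => hbq (hPq' ▸ hb), ?_⟩
      rw [← Submodule.Quotient.mk_smul, ← Submodule.Quotient.mk_smul, Submodule.Quotient.mk_eq_zero, smul_smul]
      refine ⟨u • e, ?_⟩
      rw [hf, smul_smul, ← sub_eq_zero, ← sub_smul, hJ]
      have := J.neg_mem hu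
      rwa [neg_sub] at this
    · rw [← Submodule.Quotient.mk_smul, Submodule.Quotient.mk_eq_zero] at h0
      obtain ⟨w, hw⟩ := h0
      obtain ⟨r, hr⟩ := hLgen w
      rw [hf] at hw
      have h1 : (g * r - b * s) ∈ J := by
        rw [← hJ, sub_smul, mul_smul, ← hr, smul_comm g b, hw, mul_smul, sub_self]
      have hJP : J ≤ P.asIdeal := Ideal.map_le_iff_le_comap.2 hPq'.ge
      have h2 : b * s ∈ P.asIdeal := by
        have := P.asIdeal.sub_mem (P.asIdeal.mul_mem_right r hgP) (hJP h1)
        rwa [sub_sub_cancel] at this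
      exact (P.isPrime.mem_or_mem h2).elim (fun hb => hbq (hPq' ▸ hb)) hs

/-- Pullback to the affine line is surjective. -/
theorem mem_of_coh (G : 𝔸(n; X).Modules) (hG : Coh.IsCoh G) : Good Im G := by
  suffices H : ∀ C : Closeds X, ∀ G : 𝔸(n; X).Modules, Coh.IsCoh G →
      CohB1.support G ⊆ (𝔸(n; X) ↘ X) ⁻¹' (C : Set X) → Good Im G from
    H ⊤ G hG fun _ _ => trivial
  intro C
  induction C using WellFoundedLT.induction with
  | _ C IH =>
    intro G hG hsupp
    refine DevLib.devissage ((𝔸(n; X) ↘ X) ⁻¹' (C : Set X)) (Good Im) (fun M N => good_iso Im)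
      (fun M => good_isZero Im) (fun S hS h₁ h₂ h₃ _ => (good_two_three Im hS h₁ h₂ h₃).2.1) ?_ G hG hsupp
    intro z hz _ Q hQ hsm
    let p := 𝔸(n; X) ↘ X
    let D : Closeds X := ⟨closure {p z}, isClosed_closure⟩
    have hD : CohB1.support Q ⊆ p ⁻¹' (D : Set X) := fun y hy =>
      specializes_iff_mem_closure.1 ((hQ.supp y hy).map p.continuous)
    have hle : D ≤ C := closure_minimal (Set.singleton_subset_iff.2 hz) C.isClosed
    rcases hle.lt_or_eq with hlt | heq
    · exact IH D hlt Q hQ.coh hD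
    obtain ⟨C', Q₀, hC', hzC', hQ₀, hgood, hsupp₀, hsimple⟩ :=
      exists_model hIm C z (congrArg (fun E : Closeds X => (E : Set X)) heq) IH
    haveI := hQ₀.1
    let B : Submodule (𝔸(n; X).presheaf.stalk z) (Q₀.presheaf.stalk z) := ⊥
    have hB : DevLib.Absorbs B := DevLib.absorbs_bot
      (W₀ := p ⁻¹ᵁ (⟨(C' : Set X)ᶜ, C'.isClosed.isOpen_compl⟩ : X.Opens)) hzC'
      fun y hy hs => (hsupp₀ y hs).resolve_right hy
    have hN := DevLib.isCoh_subAt hQ₀ hB
    have hgN : Good Im (DevLib.subAt B) := good_of_devissage (IH C' hC') C'.isClosed hsm hN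
      (fun y hy => hsupp₀ y (DevLib.support_subset_of_mono (DevLib.subAtι B) hy))
      DevLib.subsingleton_subAt_bot
    have hM := (QCohLib.isCoh_kernel_cokernel (DevLib.subAtι B) hN hQ₀).2
    have hgM := (good_two_three Im (DevLib.cokerSeq_shortExact (DevLib.subAtι B)) hN hQ₀ hM).1 hgN hgood
    have hMsupp : ∀ y ∈ CohB1.support (cokernel (DevLib.subAtι B)), z ⤳ y := fun y hy => by
      by_contra hzy
      exact hy (DevLib.subsingleton_coker _ (DevLib.surjective_stalk_subAtι B hzy))
    have hMsimple : IsSimpleModule (𝔸(n; X).presheaf.stalk z)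
        ((cokernel (DevLib.subAtι B)).presheaf.stalk z) := by
      have hbij : Function.Bijective (stalkLin (cokernel.π (DevLib.subAtι B)) z) := by
        refine ⟨(injective_iff_map_eq_zero _).2 fun v hv => ?_, (epi_iff_stalk _).1 inferInstance z⟩
        have hv' : v ∈ LinearMap.range (stalkLin (kernel.ι (cokernel.π (DevLib.subAtι B))) z) := by
          rw [IdealMulLib.range_stalk_kernel]
          exact hv
        obtain ⟨w, rfl⟩ := hv'
        obtain ⟨w', rfl⟩ := (epi_iff_stalk (Abelian.factorThruImage (DevLib.subAtι B))).1 inferInstance z w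
        haveI : Subsingleton ((DevLib.subAt B).presheaf.stalk z) :=
          not_not.1 (DevLib.subsingleton_subAt_bot (M := Q₀) (ξ := z))
        rw [Subsingleton.elim w' 0, map_zero, map_zero]
      exact IsSimpleModule.congr (LinearEquiv.ofBijective _ hbij).symm
    exact DevLib.piece_of_two_three Set.univ (Set.subset_univ _) (Good Im) (fun M N => good_iso Im)
      (fun S hS h₁ h₂ h₃ _ => good_two_three Im hS h₁ h₂ h₃) hM hMsupp hMsimple hgM hQ hsm

end Groth.Agent.K0LocLib
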