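import Groth.Agent.K0LocLib.A1Surj
import Groth.Agent.K0LocLib.A1Inj
import Groth.Agent.RelPCLib.FlatBC
import Groth.Agent.PullbackMod.LocFree

/-!
# Homotopy invariance of `K₀` of coherent modules
-/

set_option autoImplicit false
set_option backward.isDefEq.respectTransparency false
set_option linter.style.haveILetI false

universe u

open CategoryTheory CategoryTheory.Limits AlgebraicGeometry

noncomputable section

namespace Groth.Agent.K0LocLib

variable {X Y Z : Scheme.{u}}

/-- Pullback induces a bijection on `K₀`. -/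
def HB (f : X ⟶ Y) : Prop :=
  ∃ φ : K Y →+ K X, Function.Bijective φ ∧
    ∀ M : Y.Modules, Coh.IsCoh M → φ (cl M) = cl ((Scheme.Modules.pullback f).obj M)

theorem K_ext {A : Type*} [AddCommGroup A] {φ ψ : K X →+ A}
    (h : ∀ M : X.Modules, Coh.IsCoh M → φ (cl M) = ψ (cl M)) : φ = ψ := by
  refine QuotientAddGroup.addMonoidHom_ext _ (FreeAbelianGroup.lift_ext _ _ fun M => ?_)
  show φ (QuotientAddGroup.mk (FreeAbelianGroup.of M)) = ψ (QuotientAddGroup.mk (FreeAbelianGroup.of M))
  rw [← K0ResLib.clSub_of M.2]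
  exact h M.1 M.2

/-- Pullback along a flat morphism on `K₀`. -/
def pullK (f : X ⟶ Y) [Flat f] : K Y →+ K X :=
  haveI : (Scheme.Modules.pullback f).Additive :=
    (Scheme.Modules.pullbackPushforwardAdjunction f).left_adjoint_additive
  haveI : PreservesColimitsOfSize.{0, 0} (Scheme.Modules.pullback f) :=
    (Scheme.Modules.pullbackPushforwardAdjunction f).leftAdjoint_preservesColimits
  haveI : PreservesFiniteLimits (Scheme.Modules.pullback f) :=
    Groth.Agent.EtAlgEasy.PrinPartFlat.preservesFiniteLimits_pullback_of_flat f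
  haveI : PreservesFiniteColimits (Scheme.Modules.pullback f) :=
    PreservesColimitsOfSize.preservesFiniteColimits _
  SGA6.mapSub (Scheme.Modules.pullback f) (fun M : Y.Modules => Coh.IsCoh M) (fun M : X.Modules => Coh.IsCoh M)
    fun M h => PullbackMod.isCoh_pullback f M h

theorem pullK_cl (f : X ⟶ Y) [Flat f] {M : Y.Modules} (h : Coh.IsCoh M) :
    pullK f (cl M) = cl ((Scheme.Modules.pullback f).obj M) :=
  haveI : (Scheme.Modules.pullback f).Additive :=
    (Scheme.Modules.pullbackPushforwardAdjunction f).left_adjoint_additive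
  haveI : PreservesColimitsOfSize.{0, 0} (Scheme.Modules.pullback f) :=
    (Scheme.Modules.pullbackPushforwardAdjunction f).leftAdjoint_preservesColimits
  haveI : PreservesFiniteLimits (Scheme.Modules.pullback f) :=
    Groth.Agent.EtAlgEasy.PrinPartFlat.preservesFiniteLimits_pullback_of_flat f
  haveI : PreservesFiniteColimits (Scheme.Modules.pullback f) :=
    PreservesColimitsOfSize.preservesFiniteColimits _
  KRRAmple.mapSub_cl _ _ _ _ h

theorem HB.comp {f : X ⟶ Y} {g : Y ⟶ Z} [IsLocallyNoetherian X] (hf : HB f) (hg : HB g) : HB (f ≫ g) := by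
  obtain ⟨φ, hφ, eφ⟩ := hf
  obtain ⟨ψ, hψ, eψ⟩ := hg
  refine ⟨φ.comp ψ, hφ.comp hψ, fun M hM => ?_⟩
  rw [AddMonoidHom.comp_apply, eψ M hM, eφ _ (PullbackMod.isCoh_pullback g M hM)]
  exact cl_iso ((Scheme.Modules.pullbackComp f g).app M).symm (PullbackMod.isCoh_pullback _ M hM)

theorem HB.of_isIso (f : X ⟶ Y) [IsIso f] [IsLocallyNoetherian X] [IsLocallyNoetherian Y] : HB f := by
  refine ⟨pullK f, Function.bijective_iff_has_inverse.2 ⟨pullK (inv f), fun x => ?_, fun x => ?_⟩,
    fun M h => pullK_cl f h⟩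
  · refine DFunLike.congr_fun (show (pullK (inv f)).comp (pullK f) = AddMonoidHom.id _ from K_ext fun M h => ?_) x
    rw [AddMonoidHom.comp_apply, pullK_cl f h, pullK_cl _ (PullbackMod.isCoh_pullback f M h)]
    exact cl_iso ((Scheme.Modules.pullbackComp _ _).app M ≪≫
      (Scheme.Modules.pullbackCongr (IsIso.inv_hom_id f)).app M ≪≫ (Scheme.Modules.pullbackId Y).app M)
      (PullbackMod.isCoh_pullback _ _ (PullbackMod.isCoh_pullback f M h)) |>.symm.trans rfl
  · refine DFunLike.congr_fun (show (pullK f).comp (pullK (inv f)) = AddMonoidHom.id _ from K_ext fun M h => ?_) x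
    rw [AddMonoidHom.comp_apply, pullK_cl (inv f) h, pullK_cl _ (PullbackMod.isCoh_pullback (inv f) M h)]
    exact cl_iso ((Scheme.Modules.pullbackComp _ _).app M ≪≫
      (Scheme.Modules.pullbackCongr (IsIso.hom_inv_id f)).app M ≪≫ (Scheme.Modules.pullbackId X).app M)
      (PullbackMod.isCoh_pullback _ _ (PullbackMod.isCoh_pullback (inv f) M h)) |>.symm.trans rfl

theorem isNoetherian_affineSpace (n : Type u) [Finite n] (S : Scheme.{u}) [IsNoetherian S] :
    IsNoetherian 𝔸(n; S) := by
  haveI : IsLocallyNoetherian 𝔸(n; S) := LocallyOfFiniteType.isLocallyNoetherian (𝔸(n; S) ↘ S)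
  haveI : CompactSpace 𝔸(n; S) := QuasiCompact.compactSpace_of_compactSpace (𝔸(n; S) ↘ S)
  exact {}

/-- Homotopy invariance for one coordinate. -/
theorem HB.line (n : Type u) [Unique n] (X : Scheme.{u}) [IsNoetherian X] [Flat (𝔸(n; X) ↘ X)] :
    HB (𝔸(n; X) ↘ X) := by
  haveI := isNoetherian_affineSpace n X
  haveI : IsClosedImmersion (Groth.Agent.UnitsAffSpace.zeroSec n X) := isClosedImmersion_zeroSec (n := n) X
  refine ⟨pullK _, ⟨injective_of_pullback _ fun M h => pullK_cl _ h, fun x => ?_⟩, fun M h => pullK_cl _ h⟩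
  induction x using QuotientAddGroup.induction_on with | _ z => ?_
  show (QuotientAddGroup.mk z : K 𝔸(n; X)) ∈ (pullK (𝔸(n; X) ↘ X)).range
  induction z using FreeAbelianGroup.induction_on with
  | zero => exact zero_mem _
  | of M =>
    rw [← K0ResLib.clSub_of M.2]
    exact mem_of_coh (Im := (pullK (𝔸(n; X) ↘ X)).range) (fun N h => ⟨cl N, pullK_cl _ h⟩) M.1 M.2
  | neg M h => exact neg_mem h
  | add x y hx hy => exact add_mem hx hy

theorem flat_affineSpace (n : Type u) (S : Scheme.{u}) : Flat (𝔸(n; S) ↘ S) :=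
  MorphismProperty.pullback_fst (P := @Flat) _ _ <| by
    have := isIso_of_isTerminal specULiftZIsTerminal.{u} terminalIsTerminal (terminal.from _)
    rw [← terminal.comp_from (Spec.map (CommRingCat.ofHom MvPolynomial.C)),
      MorphismProperty.cancel_right_of_respectsIso (P := @Flat),
      Flat.SpecMap_iff, CommRingCat.hom_ofHom]
    show RingHom.Flat (algebraMap (ULift ℤ) (MvPolynomial n (ULift ℤ)))
    rw [RingHom.flat_algebraMap_iff]
    infer_instance

/-- One more coordinate. -/
def succIso (r : ℕ) (S : Scheme.{u}) :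
    𝔸(ULift.{u} (Fin (r + 1)); S) ≅ 𝔸(ULift.{u} (Fin 1); 𝔸(ULift.{u} (Fin r); S)) where
  hom := AffineSpace.homOfVector
    (AffineSpace.homOfVector (𝔸(ULift.{u} (Fin (r + 1)); S) ↘ S) fun i => AffineSpace.coord S ⟨i.down.castSucc⟩)
    fun _ => AffineSpace.coord S ⟨Fin.last r⟩
  inv := AffineSpace.homOfVector
    (𝔸(ULift.{u} (Fin 1); 𝔸(ULift.{u} (Fin r); S)) ↘ 𝔸(ULift.{u} (Fin r); S) ≫ 𝔸(ULift.{u} (Fin r); S) ↘ S)
    fun i => Fin.lastCases (AffineSpace.coord _ default)
      (fun j => (𝔸(ULift.{u} (Fin 1); 𝔸(ULift.{u} (Fin r); S)) ↘ 𝔸(ULift.{u} (Fin r); S)).appTop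
        (AffineSpace.coord S ⟨j⟩)) i.down
  hom_inv_id := by
    apply AffineSpace.hom_ext
    · simp only [Category.assoc, AffineSpace.homOfVector_over, AffineSpace.homOfVector_over_assoc, Category.id_comp]
    · intro i
      obtain ⟨i⟩ := i
      rw [Scheme.Hom.comp_appTop, CommRingCat.comp_apply, AffineSpace.homOfVector_appTop_coord]
      refine Fin.lastCases ?_ (fun j => ?_) i
      · simp
      · simp only [Fin.lastCases_castSucc]
        rw [← CommRingCat.comp_apply, ← Scheme.Hom.comp_appTop, AffineSpace.homOfVector_over]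
        simp
  inv_hom_id := by
    apply AffineSpace.hom_ext
    · rw [Category.assoc, AffineSpace.homOfVector_over, Category.id_comp]
      apply AffineSpace.hom_ext
      · simp
      · intro i
        obtain ⟨j⟩ := i
        simp
    · intro i
      rw [Subsingleton.elim i default]
      simp

theorem succIso_hom_over (r : ℕ) (S : Scheme.{u}) :
    (succIso r S).hom ≫ 𝔸(ULift.{u} (Fin 1); 𝔸(ULift.{u} (Fin r); S)) ↘ 𝔸(ULift.{u} (Fin r); S) ≫
      𝔸(ULift.{u} (Fin r); S) ↘ S = 𝔸(ULift.{u} (Fin (r + 1)); S) ↘ S := by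
  simp only [succIso, AffineSpace.homOfVector_over, AffineSpace.homOfVector_over_assoc]

theorem HB.affineSpace (S : Scheme.{u}) [IsNoetherian S] (r : ℕ) : HB (𝔸(ULift.{u} (Fin r); S) ↘ S) := by
  induction r with
  | zero =>
    haveI := isNoetherian_affineSpace (ULift.{u} (Fin 0)) S
    exact HB.of_isIso _
  | succ r ih =>
    haveI := isNoetherian_affineSpace (ULift.{u} (Fin (r + 1))) S
    haveI := isNoetherian_affineSpace (ULift.{u} (Fin r)) S
    haveI := isNoetherian_affineSpace (ULift.{u} (Fin 1)) 𝔸(ULift.{u} (Fin r); S)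
    haveI := flat_affineSpace (ULift.{u} (Fin 1)) 𝔸(ULift.{u} (Fin r); S)
    rw [← succIso_hom_over r S]
    exact (HB.of_isIso _).comp ((HB.line _ _).comp ih)

end Groth.Agent.K0LocLib
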