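import Groth.Agent.K0LocLib.Basic
import Groth.Agent.DCohMore.TensorCoh
import Groth.Agent.DevLib.Piece

/-!
# Tensoring with a bundle is unipotent on `K₀` of coherent modules
-/

set_option autoImplicit false
set_option backward.isDefEq.respectTransparency false
set_option linter.style.haveILetI false
set_option linter.unusedSectionVars false

universe u

open CategoryTheory CategoryTheory.Limits AlgebraicGeometry TopologicalSpace
open Groth.Agent.DCohLib Groth.Agent.DCohMore

noncomputable section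

namespace Groth.Agent.K0LocLib

variable {W : Scheme.{u}} [AlgebraicGeometry.IsNoetherian W]

theorem cl_sigma_const {M : W.Modules} (hM : Coh.IsCoh M) :
    ∀ n : ℕ, cl (∐ fun _ : Fin n => M) = n • cl M
  | 0 => by
    rw [zero_smul]
    exact cl_isZero ((IsZero.iff_id_eq_zero _).2 (Limits.Sigma.hom_ext _ _ fun j => j.elim0))
  | n + 1 => by
    haveI : HasFiniteBiproducts W.Modules := HasFiniteBiproducts.of_hasFiniteProducts
    let f : Fin (n + 1) → W.Modules := fun _ => M
    let g : Fin n → W.Modules := fun _ => M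
    let e : (∐ f) ≅ M ⊞ (∐ g) :=
      { hom := Limits.Sigma.desc (Fin.cases (biprod.inl : M ⟶ M ⊞ ∐ g) fun i => Sigma.ι g i ≫ biprod.inr)
        inv := biprod.desc (Sigma.ι f 0) (Limits.Sigma.desc fun i => Sigma.ι f i.succ)
        hom_inv_id := Sigma.hom_ext _ _ fun j => by
          refine Fin.cases ?_ (fun i => ?_) j <;> simp [f, g]
        inv_hom_id := biprod.hom_ext' _ _ (by simp [f]) (by
          rw [biprod.inr_desc_assoc, Category.comp_id]
          exact Sigma.hom_ext _ _ fun i => by simp [f, g]) }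
    have hB := isCoh_sigma_fin (X := W) M hM
    have hs := cl_add (S := ShortComplex.mk (biprod.inl : M ⟶ M ⊞ ∐ g) biprod.snd biprod.inl_snd)
      (ShortComplex.Splitting.ofHasBinaryBiproduct M (∐ g)).shortExact hM (DCohLib.isCoh_iso e (hB (n + 1))) (hB n)
    rw [succ_nsmul', ← cl_sigma_const hM n]
    exact (cl_iso e (hB (n + 1))).symm.trans hs

variable (r : ℕ) {V : W.Modules}
  [((DCoh.tensorBi (X := W)).obj V).Additive] [PreservesFiniteLimits ((DCoh.tensorBi (X := W)).obj V)]
  [PreservesFiniteColimits ((DCoh.tensorBi (X := W)).obj V)]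
  (hVc : ∀ M : W.Modules, Coh.IsCoh M → Coh.IsCoh (((DCoh.tensorBi (X := W)).obj V).obj M))

/-- The unipotence defect. -/
def unip : K W →+ K W :=
  SGA6.mapSub ((DCoh.tensorBi (X := W)).obj V) (fun M : W.Modules => Coh.IsCoh M) (fun M : W.Modules => Coh.IsCoh M) hVc -
    r • AddMonoidHom.id (K W)

theorem subsingleton_stalk_tensor {M : W.Modules} (x : W) (h : Subsingleton (M.presheaf.stalk x)) :
    Subsingleton ((((DCoh.tensorBi (X := W)).obj V).obj M).presheaf.stalk x) := by
  refine (stalkTensor x V M).symm.toEquiv.subsingleton_congr.2 ⟨fun a b => ?_⟩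
  suffices h0 : ∀ c : TensorProduct (W.presheaf.stalk x) (V.presheaf.stalk x) (M.presheaf.stalk x), c = 0 from
    (h0 a).trans (h0 b).symm
  intro c
  induction c using TensorProduct.induction_on with
  | zero => rfl
  | tmul m n => rw [h.elim n 0, TensorProduct.tmul_zero]
  | add p q hp hq => rw [hp, hq, add_zero]

/-- Classes of modules supported in a subset. -/
def suppK (C : Set W) : AddSubgroup (K W) :=
  AddSubgroup.closure {c | ∃ M : W.Modules, Coh.IsCoh M ∧ CohB1.support M ⊆ C ∧ c = cl M}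

theorem unip_mem {U : W.Opens} (e : V.restrict U.ι ≅ FlatMod.freeMod (↑U) r) {C : Set W} :
    suppK C ≤ (suppK (C ∩ (U : Set W)ᶜ)).comap (unip r hVc) := by
  rw [suppK, AddSubgroup.closure_le]
  rintro _ ⟨M, hM, hsupp, rfl⟩
  show unip r hVc (cl M) ∈ suppK (C ∩ (U : Set W)ᶜ)
  rw [unip, AddMonoidHom.sub_apply, KRRAmple.mapSub_cl _ _ _ hVc hM, AddMonoidHom.smul_apply,
    AddMonoidHom.id_apply, ← cl_sigma_const hM r]
  let j := U.ι
  let R := Scheme.Modules.restrictFunctor j
  let S := ∐ fun _ : Fin r => M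
  let T := ((DCoh.tensorBi (X := W)).obj V).obj M
  have hS : Coh.IsCoh S := isCoh_sigma_fin M hM r
  haveI : PreservesColimitsOfSize.{0, 0} R := (Scheme.Modules.restrictAdjunction j).leftAdjoint_preservesColimits
  haveI : PreservesColimitsOfSize.{u, u} ((ModSite.tensorBi (U : Scheme.{u}).sheaf).flip.obj (R.obj M)) :=
    Groth.Agent.ModTensor.preservesColimitsOfSize_tensorBi (U : Scheme.{u}).sheaf (R.obj M)
  let F : (U : Scheme.{u}).Modules ⥤ (U : Scheme.{u}).Modules := (DCoh.tensorBi (X := (U : Scheme.{u}))).flip.obj (R.obj M)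
  haveI : PreservesColimitsOfSize.{u, u} F := ‹_›
  haveI : PreservesColimitsOfSize.{0, 0} F := preservesColimitsOfSize_shrink.{0, u, 0, u} _
  let u₁ : F.obj (Coh.structureModule (U : Scheme.{u})) ≅ R.obj M :=
    ((Groth.Agent.ModTensor.tensorSymm (U : Scheme.{u}).sheaf (Coh.structureModule (U : Scheme.{u}))).app (R.obj M)).symm ≪≫
      (Groth.Agent.ModTensor.tensorUnitRight (U : Scheme.{u}).sheaf).app (R.obj M)
  let θ : R.obj S ≅ R.obj T :=
    PreservesCoproduct.iso R _ ≪≫ (F.mapIso e ≪≫ PreservesCoproduct.iso F _ ≪≫ Limits.Sigma.mapIso fun _ => u₁).symm ≪≫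
      (restrictTensorIso j V M).symm
  obtain ⟨F', ι, φ', hm, hF', hι, hφ'⟩ := exists_lift' j hS (hVc M hM) θ.hom
  haveI := hm
  have hT : Coh.IsCoh T := hVc M hM
  have hiso : IsIso (R.map φ') := by rw [hφ']; infer_instance
  have hoff : ∀ {A B : W.Modules} (f : A ⟶ B), IsIso (R.map f) → ∀ y : W, y ∈ U →
      Subsingleton ((kernel f).presheaf.stalk y) ∧ Subsingleton ((cokernel f).presheaf.stalk y) := fun f hf y hy => by
    haveI := hf
    exact subsingleton_kernel_cokernel j f ⟨y, hy⟩
  have hS' : CohB1.support S ⊆ C := fun y hy => hsupp fun h => hy (by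
    haveI : PreservesColimitsOfSize.{0, 0} (DCohLib.stkF y) :=
      preservesColimitsOfSize_shrink.{0, u, 0, u} _
    haveI : Subsingleton ((DCohLib.stkF y).obj M) := h
    exact ModuleCat.subsingleton_of_isZero (IsZero.of_iso
      ((IsZero.iff_id_eq_zero _).2 (Limits.Sigma.hom_ext _ _ fun _ =>
        (ModuleCat.isZero_of_subsingleton ((DCohLib.stkF y).obj M)).eq_of_src _ _))
      (PreservesCoproduct.iso (DCohLib.stkF y) _)))
  have hT' : CohB1.support T ⊆ C := fun y hy => hsupp fun h => hy (subsingleton_stalk_tensor y h)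
  have hF'' : CohB1.support F' ⊆ C := (DevLib.support_subset_of_mono ι).trans hS'
  obtain ⟨hk₁, hc₁⟩ := QCohLib.isCoh_kernel_cokernel φ' hF' hT
  obtain ⟨-, hc₂⟩ := QCohLib.isCoh_kernel_cokernel ι hF' hS
  have e1 := cl_sub φ' hF' hT
  have e2 := cl_sub ι hF' hS
  rw [cl_isZero (isZero_kernel_of_mono ι), zero_sub] at e2
  have g1 : cl (kernel φ') ∈ suppK (C ∩ (U : Set W)ᶜ) := AddSubgroup.subset_closure ⟨_, hk₁,
    fun y hy => ⟨hF'' (DevLib.support_subset_of_mono (kernel.ι φ') hy), fun hU => hy (hoff φ' hiso y hU).1⟩, rfl⟩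
  have g2 : cl (cokernel φ') ∈ suppK (C ∩ (U : Set W)ᶜ) := AddSubgroup.subset_closure ⟨_, hc₁,
    fun y hy => ⟨hT' fun h => hy (Function.Surjective.subsingleton
      ((PullbackMod.epi_iff_stalk (cokernel.π φ')).1 inferInstance y)), fun hU => hy (hoff φ' hiso y hU).2⟩, rfl⟩
  have g3 : cl (cokernel ι) ∈ suppK (C ∩ (U : Set W)ᶜ) := AddSubgroup.subset_closure ⟨_, hc₂,
    fun y hy => ⟨hS' (DevLib.support_coker_subset ι hy), fun hU => hy (hoff ι hι y hU).2⟩, rfl⟩
  have : cl T - cl S = cl (cokernel φ') - cl (kernel φ') - cl (cokernel ι) := by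
    have h1 : cl T - cl S = (cl F' - cl S) - (cl F' - cl T) := by abel
    rw [h1]
    show (cl F' - cl S) - (cl F' - cl T) = _
    rw [show cl F' - cl S = -cl (cokernel ι) from e2.symm ▸ rfl, show cl F' - cl T = cl (kernel φ') - cl (cokernel φ') from e1.symm ▸ rfl]
    abel
  exact this ▸ sub_mem (sub_mem g2 g1) g3

theorem exists_iterate_eq_zero (hV : FlatMod.IsFinLocFreeOfRank r V) :
    ∃ n : ℕ, ∀ y : K W, (⇑(unip r hVc))^[n] y = 0 := by
  classical
  choose U hU e using hV
  obtain ⟨t, ht⟩ := (isCompact_univ (X := W)).elim_finite_subcover (fun x => ((U x : W.Opens) : Set W))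
    (fun x => (U x).2) (fun x _ => Set.mem_iUnion.2 ⟨x, hU x⟩)
  have key : ∀ s : Finset W, ∀ y : K W,
      (⇑(unip r hVc))^[s.card] y ∈ suppK (W := W) (⋂ x ∈ s, ((U x : W.Opens) : Set W)ᶜ) := by
    intro s
    induction s using Finset.induction_on with
    | empty =>
      intro y
      simp only [Finset.card_empty, Function.iterate_zero_apply]
      induction y using QuotientAddGroup.induction_on with | _ z => ?_
      induction z using FreeAbelianGroup.induction_on with
      | zero => exact zero_mem _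
      | of M =>
        rw [← K0ResLib.clSub_of M.2]
        exact AddSubgroup.subset_closure ⟨M.1, M.2, by simp, rfl⟩
      | neg M h => exact neg_mem h
      | add x y hx hy => exact add_mem hx hy
    | insert a s ha ih =>
      intro y
      rw [Finset.card_insert_of_notMem ha, Function.iterate_succ_apply', Finset.set_biInter_insert, Set.inter_comm]
      exact unip_mem r hVc (e a).some (ih y)
  refine ⟨t.card, fun y => ?_⟩
  have h := key t y
  refine (AddSubgroup.mem_bot).1 ((AddSubgroup.closure_le ⊥).2 ?_ h)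
  rintro _ ⟨M, hM, hsupp, rfl⟩
  refine AddSubgroup.mem_bot.2 (cl_isZero (isZero_of_stalks fun x => by_contra fun hx => ?_))
  obtain ⟨a, ha, hxa⟩ := Set.mem_iUnion₂.1 (ht (Set.mem_univ x))
  exact Set.mem_iInter₂.1 (hsupp hx) a ha hxa

end Groth.Agent.K0LocLib
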